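import Cfsg.Agent.Helper57.BP.Exists

/-!
# S4504: small lemmas shared by the pieces
-/

set_option autoImplicit false

namespace Cfsg.Agent.Helper57.BP

open Cfsg Cfsg.Agent.Helper16 Cfsg.Agent.Helper16.DefOne Cfsg.Agent.Helper82.DefOne
  Cfsg.Agent.Helper77.DefOne Cfsg.Agent.Helper57.BH
open scoped ComplexConjugate

universe u

variable {G : Type u} [Group G] [Fintype G] {p : ℕ} [Fact p.Prime] (P : Sylow p G)

/-- for a faithful irreducible character, the centre of the character is the centre of the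
group -/
theorem mem_center_of_mem_charCenter (ψ : IrrCharacter G)
    (hfaith : ∀ g : G, (ψ : G → ℂ) g = (ψ : G → ℂ) 1 → g = 1) (g : G)
    (hg : g ∈ Helper74.charCenter ψ) : g ∈ Subgroup.center G := by
  rw [Subgroup.mem_center_iff]
  intro h
  have h1 := hfaith _ (apply_commutator_of_mem_charCenter ψ g h hg)
  calc h * g = (g * h * g⁻¹ * h⁻¹) * (h * g) := by rw [h1, one_mul]
    _ = g * h := by group

/-- (T0) the pair can be swapped -/
theorem IsExcPair.symm {θ : IrrCharacter (cen P)} {ψ ψ₂ : IrrCharacter G}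
    {φ₀ φ₂ : IrrCharacter (cen P)} {Xθ Yθ : Set (IrrCharacter G)} {εθ : IrrCharacter G → ℤ}
    (hE : IsExcPair P θ ψ ψ₂ φ₀ φ₂ Xθ Yθ εθ) : IsExcPair P θ ψ₂ ψ φ₂ φ₀ Xθ Yθ εθ where
  hθ := hE.hθ
  Dθ := hE.Dθ
  hψ := hE.hψ₂
  hψ₂ := hE.hψ
  hne := hE.hne.symm
  h1 := hE.h1'
  h2 := hE.h2'
  h1' := hE.h1
  h2' := hE.h2
  hrow := hE.hrow₂
  hrow₂ := hE.hrow
  hsum := hE.hsum₂
  hsum₂ := hE.hsum
  hns := fun φ hφ φ' hφ' h => hE.hns φ' hφ' φ hφ (sameP_symm P h)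
  hreg := fun g hg => (hE.hreg g hg).symm
  hdegθ := hE.hdegθ
  hdeg := hE.hdeg₂
  hdeg₂ := hE.hdeg

end Cfsg.Agent.Helper57.BP
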