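import Cfsg.Agent.Helper57.BP.Defs

/-!
# S4504: the pieces (A-X) and (A-delta) of S4503 with a weak inequality

Copies of `Helper80.BH.not_mem_X_of_small` (helper80) and `Helper63.BH.delta_eq_one` (helper63)
with the hypothesis `2 ψ(1) + 1 < p` weakened to `2 ψ(1) + 1 ≤ p`; the proofs are theirs.
-/

set_option autoImplicit false

namespace Cfsg.Agent.Helper57.BP

open Cfsg Cfsg.Agent.Helper16 Cfsg.Agent.Helper16.DefOne Cfsg.Agent.Helper82.DefOne
  Cfsg.Agent.Helper77.DefOne Cfsg.Agent.Helper57.BH Cfsg.Agent.Helper63.BH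
open scoped ComplexConjugate

universe u

variable {G : Type u} [Group G] [Fintype G] {p : ℕ} [Fact p.Prime] (P : Sylow p G)

/-- (A-X) a small character with `P` not in its kernel is not non-exceptional -/
theorem not_mem_X_of_le (hP : Nat.card P = p) (θ : IrrCharacter (cen P)) (hθ : IsCanon P θ)
    {X Y : Set (IrrCharacter G)} {ε : IrrCharacter G → ℤ} {δ : ℤ} (D : IsRData P θ X Y ε δ)
    (ψ : IrrCharacter G) (hsmall : 2 * charDegree (ψ : G → ℂ) + 1 ≤ p)
    (hker : ∃ x : G, x ∈ (P : Subgroup G) ∧ (ψ : G → ℂ) x ≠ (ψ : G → ℂ) 1) : ψ ∉ X := by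
  intro hψ
  obtain ⟨x, hx, hxne⟩ := hker
  have hx1 : x ≠ 1 := by
    rintro rfl
    exact hxne rfl
  set w : ℕ := (cen P).relIndex (nor P) / inertia P θ * charDegree (θ : cen P → ℂ) with hw
  set d : ℕ := charDegree (ψ : G → ℂ) with hd
  have hval : (ψ : G → ℂ) x = (ε ψ : ℂ) * (w : ℂ) := by
    have h1 := D.valX ψ hψ ⟨x, le_cen P hP hx⟩ (dvd_orderOf_of_mem P hP x hx hx1)
    rw [finsum_orbit_apply_of_mem P hP θ hθ ⟨x, le_cen P hP hx⟩ hx] at h1
    exact h1
  have hdeg : (d : ℤ) ≡ ε ψ * (w : ℤ) [ZMOD p] := D.degX ψ hψ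
  have hψchar : IsCharacter G (ψ : G → ℂ) := by
    obtain ⟨n, ρ, -, h⟩ := ψ.2
    exact ⟨n, ρ, h⟩
  have hnorm : ‖(ψ : G → ℂ) x‖ ≤ (d : ℝ) := Helper74.norm_le_charDegree hψchar x
  have hdpos : 0 < d := Nat.pos_of_ne_zero (charDegree_ne_zero' ψ)
  have hwle : w ≤ d := by
    rw [hval] at hnorm
    have h2 : ‖(ε ψ : ℂ) * (w : ℂ)‖ = (w : ℝ) := by
      rcases D.eps ψ with h | h
      · rw [h]; simp
      · rw [h]; simp
    rw [h2] at hnorm
    exact_mod_cast hnorm
  rcases D.eps ψ with h | h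
  · -- `ε = 1`
    rw [h, one_mul] at hdeg
    have h3 : d ≡ w [MOD p] := Int.natCast_modEq_iff.1 hdeg
    have h4 : d = w := Nat.ModEq.eq_of_lt_of_lt h3 (by omega) (by omega)
    apply hxne
    rw [hval, h, irr_one_eq_natCast, ← hd, h4]
    simp
  · -- `ε = -1`
    rw [h] at hdeg
    have h3 : (p : ℤ) ∣ -1 * (w : ℤ) - (d : ℤ) := Int.modEq_iff_dvd.1 hdeg
    have h4 : (p : ℤ) ∣ ((w + d : ℕ) : ℤ) := by
      have := (dvd_neg (a := (p : ℤ))).2 h3
      have e : -(-1 * (w : ℤ) - (d : ℤ)) = ((w + d : ℕ) : ℤ) := by push_cast; ring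
      rwa [e] at this
    have h5 : p ∣ w + d := Int.natCast_dvd_natCast.1 h4
    have h6 := Nat.le_of_dvd (by omega) h5
    omega


open Classical in
/-- (A-delta) a small exceptional character with `P` not in its kernel has `δ = 1` -/
theorem delta_eq_one_of_le (hP : Nat.card P = p) [((P : Subgroup G).subgroupOf (nor P)).Normal]
    (hmod : ModCount p P) (θ : IrrCharacter (cen P)) (hθ : IsCanon P θ)
    {X Y : Set (IrrCharacter G)} {ε : IrrCharacter G → ℤ} {δ : ℤ} (D : IsRData P θ X Y ε δ)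
    (ψ : IrrCharacter G) (hψ : ψ ∈ Y) (φ₀ : IrrCharacter (cen P)) (h1 : can P φ₀ = θ)
    (h2 : ¬ IsCanon P φ₀)
    (hrow : ∀ φ : IrrCharacter (cen P),
      rowZ P ψ φ = if φ ∈ MulAction.orbit (nor P) φ₀ then δ else 0)
    (hsmall : 2 * charDegree (ψ : G → ℂ) + 1 ≤ p)
    (hker : ∃ x : G, x ∈ (P : Subgroup G) ∧ (ψ : G → ℂ) x ≠ (ψ : G → ℂ) 1) : δ = 1 := by
  rcases D.del with hδ | hδ
  · exact hδ
  exfalso
  have hpp : p.Prime := Fact.out
  haveI : Finite (IrrCharacter (cen P)) := Helper79.irr_finite'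
  haveI : Fintype (IrrCharacter (cen P)) := Fintype.ofFinite _
  -- the orbit consists of non-canonical characters
  have hOnc : ∀ φ ∈ MulAction.orbit (nor P) φ₀, ¬ IsCanon P φ := by
    rintro φ hφ hcan
    obtain ⟨n, hn⟩ := (mem_orbit_iff P φ₀ φ).mp hφ
    apply h2
    rw [← hn]
    exact isCanon_smul P hP n φ hcan
  have hθO : θ ∉ MulAction.orbit (nor P) φ₀ := fun h => hOnc θ h hθ
  have hcanθ : can P θ = θ := can_eq_self P hP θ hθ
  -- multiplicities
  have hmθ : 1 ≤ mult P ψ θ := by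
    have h3 := hrow φ₀
    rw [if_pos (MulAction.mem_orbit_self φ₀), hδ] at h3
    unfold rowZ at h3
    rw [h1] at h3
    have h4 := mult_nonneg_aux P ψ φ₀
    omega
  have hmF : ∀ φ : IrrCharacter (cen P), can P φ = θ → φ ∉ MulAction.orbit (nor P) φ₀ →
      mult P ψ φ = mult P ψ θ := by
    intro φ hφ hφO
    have h3 := hrow φ
    rw [if_neg hφO] at h3
    unfold rowZ at h3
    rw [hφ] at h3
    omega
  have hdegF : ∀ φ : IrrCharacter (cen P), can P φ = θ →
      charDegree (φ : cen P → ℂ) = charDegree (θ : cen P → ℂ) := by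
    intro φ hφ
    rw [← hφ, Cfsg.Agent.Helper48.BH.charDegree_can P hP φ]
  have hdpos : 0 < charDegree (θ : cen P → ℂ) := Nat.pos_of_ne_zero (charDegree_ne_zero' θ)
  -- cardinalities
  have hcardFib : Nat.card {φ : IrrCharacter (cen P) // can P φ = θ} = p :=
    card_fibre_can P hP θ hθ
  have hcardFO : Nat.card {φ : IrrCharacter (cen P) //
      can P φ = θ ∧ φ ∈ MulAction.orbit (nor P) φ₀} = inertia P θ := by
    have h3 := card_orbit_in_fibre P hP φ₀ h2
    rw [h1] at h3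
    rw [← h3]
    apply Nat.card_congr
    apply Equiv.subtypeEquivRight
    intro φ
    rw [mem_orbit_iff]
  -- finsets
  set Fib : Finset (IrrCharacter (cen P)) := Finset.univ.filter (fun φ => can P φ = θ) with hFib
  set FO : Finset (IrrCharacter (cen P)) :=
    Finset.univ.filter (fun φ => can P φ = θ ∧ φ ∈ MulAction.orbit (nor P) φ₀) with hFO
  set FN : Finset (IrrCharacter (cen P)) :=
    Finset.univ.filter (fun φ => can P φ = θ ∧ φ ∉ MulAction.orbit (nor P) φ₀) with hFN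
  have hcFib : Fib.card = p := by
    have h3 : Fib.card = Nat.card {φ : IrrCharacter (cen P) // can P φ = θ} := by
      rw [Nat.card_eq_fintype_card, Fintype.card_subtype]
    rw [h3]
    exact hcardFib
  have hcFO : FO.card = inertia P θ := by
    have h3 : FO.card = Nat.card {φ : IrrCharacter (cen P) //
        can P φ = θ ∧ φ ∈ MulAction.orbit (nor P) φ₀} := by
      rw [Nat.card_eq_fintype_card, Fintype.card_subtype]
    rw [h3]
    exact hcardFO
  have hsplit : FO.card + FN.card = Fib.card := by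
    rw [hFO, hFN, hFib]
    have h3 := Finset.card_filter_add_card_filter_not
      (s := Finset.univ.filter (fun φ : IrrCharacter (cen P) => can P φ = θ))
      (fun φ => φ ∈ MulAction.orbit (nor P) φ₀)
    rw [Finset.filter_filter, Finset.filter_filter] at h3
    exact h3
  -- the degree bound
  have hdeg : (FN.card * charDegree (θ : cen P → ℂ) : ℤ) ≤ (charDegree (ψ : G → ℂ) : ℤ) := by
    rw [degree_eq_sum_mult P ψ]
    calc (FN.card * charDegree (θ : cen P → ℂ) : ℤ)
        = ∑ φ ∈ FN, (charDegree (θ : cen P → ℂ) : ℤ) := by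
          rw [Finset.sum_const, nsmul_eq_mul]
      _ ≤ ∑ φ ∈ FN, mult P ψ φ * (charDegree (φ : cen P → ℂ) : ℤ) := by
          apply Finset.sum_le_sum
          intro φ hφ
          rw [hFN, Finset.mem_filter] at hφ
          rw [hmF φ hφ.2.1 hφ.2.2, hdegF φ hφ.2.1]
          have h5 : (0 : ℤ) ≤ (charDegree (θ : cen P → ℂ) : ℤ) := Int.natCast_nonneg _
          nlinarith
      _ ≤ ∑ φ : IrrCharacter (cen P), mult P ψ φ * (charDegree (φ : cen P → ℂ) : ℤ) := by
          apply Finset.sum_le_sum_of_subset_of_nonneg (Finset.subset_univ _)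
          intro φ _ _
          exact mul_nonneg (mult_nonneg_aux P ψ φ) (Int.natCast_nonneg _)
  have hepos : 0 < inertia P θ := inertia_pos P hP θ
  have he_dvd : inertia P θ ∣ p - 1 := dvd_trans (inertia_dvd P hP θ) (relIndex_cen_nor_dvd P hP)
  have hp2 : 2 ≤ p := hpp.two_le
  have hdeg2 : FN.card ≤ charDegree (ψ : G → ℂ) := by
    have h3 : (FN.card : ℤ) ≤ (FN.card * charDegree (θ : cen P → ℂ) : ℤ) := by
      have h4 : (1 : ℤ) ≤ (charDegree (θ : cen P → ℂ) : ℤ) := by exact_mod_cast hdpos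
      have h5 : (0 : ℤ) ≤ (FN.card : ℤ) := Int.natCast_nonneg _
      nlinarith
    exact_mod_cast le_trans h3 hdeg
  have he1 : inertia P θ = p - 1 := by
    obtain ⟨k, hk⟩ := he_dvd
    have h3 : p + 1 ≤ 2 * inertia P θ := by omega
    rcases k with _ | _ | k
    · omega
    · omega
    · have h4 : 2 * inertia P θ ≤ inertia P θ * (k + 1 + 1) := by nlinarith
      omega
  have hFN1 : FN.card = 1 := by omega
  have hθFN : θ ∈ FN := by
    rw [hFN, Finset.mem_filter]
    exact ⟨Finset.mem_univ _, hcanθ, hθO⟩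
  have hFNθ : ∀ φ : IrrCharacter (cen P), can P φ = θ → φ ≠ θ →
      φ ∈ MulAction.orbit (nor P) φ₀ := by
    intro φ hφ hne
    by_contra hφO
    have hφFN : φ ∈ FN := by
      rw [hFN, Finset.mem_filter]
      exact ⟨Finset.mem_univ _, hφ, hφO⟩
    obtain ⟨a, ha⟩ := Finset.card_eq_one.mp hFN1
    rw [ha, Finset.mem_singleton] at hφFN hθFN
    exact hne (hφFN.trans hθFN.symm)
  -- `N` fixes `θ`
  have hf : (cen P).relIndex (nor P) = inertia P θ := by
    have h3 := inertia_dvd P hP θ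
    have h4 := relIndex_cen_nor_dvd P hP
    have h5 : (cen P).relIndex (nor P) ≤ p - 1 := Nat.le_of_dvd (by omega) h4
    have hfpos : 0 < (cen P).relIndex (nor P) := Nat.pos_of_dvd_of_pos h4 (by omega)
    have h6 : inertia P θ ≤ (cen P).relIndex (nor P) := Nat.le_of_dvd hfpos h3
    omega
  have horbθ : Nat.card (MulAction.orbit (nor P) θ) = 1 := by
    have h3 := card_orbit_mul_inertia P hP θ
    rw [hf] at h3
    exact Nat.eq_of_mul_eq_mul_right hepos (by rw [h3, one_mul])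
  have hstab : ∀ n : nor P, n • θ = θ := by
    intro n
    have hss := (Nat.card_eq_one_iff_unique.mp horbθ).1
    have h3 : (⟨n • θ, MulAction.mem_orbit θ n⟩ : MulAction.orbit (nor P) θ) =
        ⟨θ, MulAction.mem_orbit_self θ⟩ := Subsingleton.elim _ _
    exact congrArg Subtype.val h3
  have hOFib : ∀ φ ∈ MulAction.orbit (nor P) φ₀, can P φ = θ := by
    rintro φ ⟨n, rfl⟩
    show can P (n • φ₀) = θ
    rw [can_smul P hP n φ₀, h1, hstab n]
  -- the values of `ψ` on `P \ 1`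
  have hval : ∀ x : G, x ∈ (P : Subgroup G) → x ≠ 1 →
      (ψ : G → ℂ) x = (((charDegree (θ : cen P → ℂ) : ℕ) : ℤ) : ℂ) := by
    intro x hx hx1
    have hc := dvd_orderOf_of_mem P hP x hx hx1
    have h3 := apply_singular_eq P hP ψ ⟨x, le_cen P hP hx⟩ hc
    have h4 := finsum_fibre_apply_singular P hP θ hθ ⟨x, le_cen P hP hx⟩ hc
    rw [finsum_eq_sum_of_fintype] at h3
    rw [finsum_mem_def, finsum_eq_sum_of_fintype] at h4
    simp only [Set.indicator_apply, Set.mem_ofPred_eq] at h4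
    have h5 : ∀ φ : IrrCharacter (cen P),
        (if can P φ = θ then (φ : cen P → ℂ) ⟨x, le_cen P hP hx⟩ else 0) =
        (if φ ∈ MulAction.orbit (nor P) φ₀ then (φ : cen P → ℂ) ⟨x, le_cen P hP hx⟩ else 0) +
          (if φ = θ then (θ : cen P → ℂ) ⟨x, le_cen P hP hx⟩ else 0) := by
      intro φ
      by_cases hφO : φ ∈ MulAction.orbit (nor P) φ₀
      · have hne : φ ≠ θ := fun h => hθO (h ▸ hφO)
        rw [if_pos hφO, if_neg hne, if_pos (hOFib φ hφO), add_zero]
      · by_cases hφθ : φ = θ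
        · subst hφθ
          rw [if_pos hcanθ, if_neg hφO, if_pos rfl, zero_add]
        · rw [if_neg hφO, if_neg hφθ, add_zero, if_neg]
          intro hcan
          exact hφO (hFNθ φ hcan hφθ)
    simp only [h5] at h4
    rw [Finset.sum_add_distrib, Finset.sum_ite_eq' Finset.univ θ, if_pos (Finset.mem_univ _)] at h4
    have h6 : ∀ φ : IrrCharacter (cen P),
        (rowZ P ψ φ : ℂ) * (φ : cen P → ℂ) ⟨x, le_cen P hP hx⟩ =
        -(if φ ∈ MulAction.orbit (nor P) φ₀ then (φ : cen P → ℂ) ⟨x, le_cen P hP hx⟩ else 0) := by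
      intro φ
      rw [hrow φ, hδ]
      split_ifs <;> simp
    simp only [h6] at h3
    rw [Finset.sum_neg_distrib] at h3
    have h7 : (ψ : G → ℂ) x = (θ : cen P → ℂ) ⟨x, le_cen P hP hx⟩ := by
      rw [h3]
      linear_combination (-1 : ℂ) * h4
    rw [h7, hθ ⟨x, le_cen P hP hx⟩ hx, irr_one_eq_natCast θ]
    simp
  -- the degree of `ψ`
  have hmodeq := degree_modEq_of_const P hP ψ ((charDegree (θ : cen P → ℂ) : ℕ) : ℤ) hval
  have hdθ : charDegree (θ : cen P → ℂ) ≤ charDegree (ψ : G → ℂ) := by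
    rw [hFN1] at hdeg
    have h3 : ((charDegree (θ : cen P → ℂ) : ℕ) : ℤ) ≤ (charDegree (ψ : G → ℂ) : ℤ) := by
      simpa using hdeg
    exact_mod_cast h3
  have hdegeq : charDegree (ψ : G → ℂ) = charDegree (θ : cen P → ℂ) := by
    have h3 : charDegree (ψ : G → ℂ) ≡ charDegree (θ : cen P → ℂ) [MOD p] :=
      Int.natCast_modEq_iff.mp hmodeq
    exact Nat.ModEq.eq_of_lt_of_lt h3 (by omega) (by omega)
  obtain ⟨x, hx, hne⟩ := hker
  apply hne
  by_cases hx1 : x = 1
  · rw [hx1]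
  · rw [hval x hx hx1, irr_one_eq_natCast ψ, hdegeq]
    simp


end Cfsg.Agent.Helper57.BP
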