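import Cfsg.Agent.Helper57.BP.Defs

/-!
# S4504: the counting argument in the principal block, boundary case
-/

set_option autoImplicit false

namespace Cfsg.Agent.Helper57.BP

open Cfsg Cfsg.Agent.Helper16 Cfsg.Agent.Helper16.DefOne Cfsg.Agent.Helper82.DefOne
  Cfsg.Agent.Helper77.DefOne Cfsg.Agent.Helper57.BH
open scoped ComplexConjugate

universe u

variable {G : Type u} [Group G] [Fintype G] {p : ℕ} [Fact p.Prime] (P : Sylow p G)

/-- arithmetic, case `δ = 1` -/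
theorem arith_pos_eq (f p a m : ℕ) (hf2 : 2 ≤ f) (hfp : 2 * f + 1 ≤ p) (ham : a + m = f)
    (ha : 1 ≤ a) (SP : ℕ) (hSP : 1 + (a - 1) * (p + 1) ≤ SP)
    (hrel : (f : ℤ) = (SP : ℤ) - (m : ℤ) * ((p : ℤ) - 1))
    (hz : ((p : ℝ) - 1) * m + f ≤ (f : ℝ) ^ 2) :
    2 * f + 1 = p ∧ SP = 1 + (a - 1) * (p + 1) ∧ m * (p - 1) + f = f ^ 2 ∧ SP = f ^ 2 := by
  obtain ⟨a', rfl⟩ : ∃ a', a = a' + 1 := ⟨a - 1, by omega⟩
  simp only [Nat.add_sub_cancel] at hSP ⊢
  have hSP' : (1 : ℤ) + (a' : ℤ) * ((p : ℤ) + 1) ≤ (SP : ℤ) := by exact_mod_cast hSP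
  have hf : (f : ℤ) = (a' : ℤ) + 1 + m := by exact_mod_cast ham.symm
  have hp0 : (0 : ℤ) < p := by omega
  have h1 : (a' : ℤ) * p ≤ (m : ℤ) * p := by nlinarith
  have h2 : (a' : ℤ) ≤ m := le_of_mul_le_mul_right h1 hp0
  have hz' : ((p : ℤ) - 1) * m + f ≤ (f : ℤ) ^ 2 := by exact_mod_cast hz
  have hf2' : (2 : ℤ) ≤ f := by exact_mod_cast hf2
  have hfp' : 2 * (f : ℤ) + 1 ≤ p := by exact_mod_cast hfp
  have hm0 : (0 : ℤ) ≤ m := by positivity
  -- `2 f m ≤ (p-1) m ≤ f (f - 1)`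
  have h3 : 2 * (f : ℤ) * m ≤ (f : ℤ) * (f - 1) := by nlinarith
  have h4 : 2 * (m : ℤ) ≤ f - 1 := by
    have hfpos : (0 : ℤ) < f := by omega
    have : (f : ℤ) * (2 * m) ≤ (f : ℤ) * (f - 1) := by linarith
    exact le_of_mul_le_mul_left this hfpos
  have h5 : (m : ℤ) = a' := by omega
  have hm1 : (1 : ℤ) ≤ m := by omega
  have h6 : (p : ℤ) = 2 * f + 1 := by
    by_contra hne
    have hlt : 2 * (f : ℤ) + 2 ≤ p := by omega
    have : (2 * (f : ℤ) + 1) * m ≤ ((p : ℤ) - 1) * m := by nlinarith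
    nlinarith
  have h7 : (SP : ℤ) = (f : ℤ) ^ 2 := by
    have : (f : ℤ) = 2 * m + 1 := by omega
    rw [h6] at hrel
    nlinarith
  have h8 : (SP : ℤ) = 1 + (a' : ℤ) * ((p : ℤ) + 1) := by
    have : (f : ℤ) = 2 * m + 1 := by omega
    rw [h7, h6, ← h5, this]
    ring
  have hp1 : 1 ≤ p := by omega
  refine ⟨by omega, by exact_mod_cast h8, ?_, by exact_mod_cast h7⟩
  have : (m : ℤ) * ((p : ℤ) - 1) + f = (f : ℤ) ^ 2 := by
    rw [← h7]; linarith
  have h9 : ((m * (p - 1) + f : ℕ) : ℤ) = ((f ^ 2 : ℕ) : ℤ) := by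
    push_cast [Nat.cast_sub hp1]
    exact this
  exact_mod_cast h9

/-- arithmetic, case `δ = -1` -/
theorem arith_neg_eq (f p a m d : ℕ) (hf2 : 2 ≤ f) (hfp : 2 * f + 1 ≤ p) (ham : a + m = f)
    (ha : 1 ≤ a) (hd : 1 ≤ d) (SP : ℕ) (hSP : 1 + (a - 1) * (p + 1) ≤ SP)
    (hrel : -(d : ℤ) = (SP : ℤ) - (m : ℤ) * ((p : ℤ) - 1))
    (hcong : (d : ℤ) ≡ -(f : ℤ) [ZMOD p])
    (hz : ((p : ℝ) - 1) * m ≤ (f : ℝ) ^ 2) :
    2 * f + 1 = p ∧ SP = 1 + (a - 1) * (p + 1) ∧ m * (p - 1) = f ^ 2 ∧ d = f + 1 ∧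
      SP + d = f ^ 2 := by
  obtain ⟨a', rfl⟩ : ∃ a', a = a' + 1 := ⟨a - 1, by omega⟩
  simp only [Nat.add_sub_cancel] at hSP ⊢
  have hSP' : (1 : ℤ) + (a' : ℤ) * ((p : ℤ) + 1) ≤ (SP : ℤ) := by exact_mod_cast hSP
  have hf : (f : ℤ) = (a' : ℤ) + 1 + m := by exact_mod_cast ham.symm
  have hp0 : (0 : ℤ) < p := by omega
  have hd' : (1 : ℤ) ≤ d := by exact_mod_cast hd
  have h1 : (a' : ℤ) * p < (m : ℤ) * p := by nlinarith
  have h2 : (a' : ℤ) < m := lt_of_mul_lt_mul_right h1 hp0.le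
  have hz' : ((p : ℤ) - 1) * m ≤ (f : ℤ) ^ 2 := by exact_mod_cast hz
  have hf2' : (2 : ℤ) ≤ f := by exact_mod_cast hf2
  have hfp' : 2 * (f : ℤ) + 1 ≤ p := by exact_mod_cast hfp
  have hm0 : (0 : ℤ) ≤ m := by positivity
  have h3 : (f : ℤ) ≤ 2 * m := by omega
  have h3' : 2 * (f : ℤ) * m ≤ (f : ℤ) ^ 2 := by nlinarith
  have h4 : 2 * (m : ℤ) ≤ f := by
    have hfpos : (0 : ℤ) < f := by omega
    have : (f : ℤ) * (2 * m) ≤ (f : ℤ) * f := by nlinarith
    exact le_of_mul_le_mul_left this hfpos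
  have h5 : (f : ℤ) = 2 * m := by omega
  have hm1 : (1 : ℤ) ≤ m := by omega
  have h6 : (p : ℤ) = 2 * f + 1 := by
    by_contra hne
    have hlt : 2 * (f : ℤ) + 2 ≤ p := by omega
    have : (2 * (f : ℤ) + 1) * m ≤ ((p : ℤ) - 1) * m := by nlinarith
    nlinarith
  -- `d ≤ f + 1`
  have ha' : (a' : ℤ) = m - 1 := by omega
  have h7 : (d : ℤ) ≤ f + 1 := by
    have e1 : (d : ℤ) = (m : ℤ) * ((p : ℤ) - 1) - SP := by linarith
    rw [e1, h6]
    have : (1 : ℤ) + ((m : ℤ) - 1) * (2 * f + 1 + 1) ≤ SP := by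
      rw [← ha', ← h6]; exact hSP'
    nlinarith
  -- the congruence
  have h8 : (d : ℤ) = f + 1 := by
    have hdvd : (p : ℤ) ∣ (d : ℤ) + f := by
      have := hcong.symm.dvd
      simpa [sub_neg_eq_add, add_comm] using this
    obtain ⟨k, hk⟩ := hdvd
    have hk1 : 1 ≤ k := by
      by_contra hk0
      have hk0' : k ≤ 0 := by omega
      have : (p : ℤ) * k ≤ 0 := mul_nonpos_of_nonneg_of_nonpos hp0.le hk0'
      omega
    have hk2 : k ≤ 1 := by
      by_contra hk0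
      have hk0' : 2 ≤ k := by omega
      have : (p : ℤ) * 2 ≤ (p : ℤ) * k := mul_le_mul_of_nonneg_left hk0' hp0.le
      omega
    have : k = 1 := by omega
    rw [this, mul_one] at hk
    omega
  have h9 : (SP : ℤ) + d = (f : ℤ) ^ 2 := by
    have : (SP : ℤ) + d = (m : ℤ) * ((p : ℤ) - 1) := by linarith
    rw [this, h6, h5]; ring
  have h10 : (SP : ℤ) = 1 + (a' : ℤ) * ((p : ℤ) + 1) := by
    have : (SP : ℤ) = (f : ℤ) ^ 2 - f - 1 := by linarith
    rw [this, ha', h6, h5]; ring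
  have hp1 : 1 ≤ p := by omega
  refine ⟨by omega, by exact_mod_cast h10, ?_, by exact_mod_cast h8, by exact_mod_cast h9⟩
  have : (m : ℤ) * ((p : ℤ) - 1) = (f : ℤ) ^ 2 := by
    rw [h6, h5]; ring
  have h11 : ((m * (p - 1) : ℕ) : ℤ) = ((f ^ 2 : ℕ) : ℤ) := by
    push_cast [Nat.cast_sub hp1]
    exact this
  exact_mod_cast h11

/-- the degree of a character is the sum of the degrees of its constituents -/
theorem charDegree_eq_sum (Ξ : G → ℂ) (hΞ : IsCharacter G Ξ) (n : IrrCharacter G → ℕ)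
    (hn : ∀ χ : IrrCharacter G, classInner Ξ (χ : G → ℂ) = n χ)
    [Fintype (IrrCharacter G)] :
    charDegree Ξ = ∑ χ : IrrCharacter G, n χ * charDegree (χ : G → ℂ) := by
  classical
  have hinst : (inferInstance : Fintype (IrrCharacter G)) = Helper74.irrFintype G :=
    Subsingleton.elim _ _
  have hdec := Helper74.isCharacter_eq_sum_irr hΞ
  have h1 := congrFun hdec 1
  simp only [Finset.sum_apply, Pi.smul_apply, smul_eq_mul] at h1
  rw [Helper79.isCharacter_one hΞ] at h1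
  have h2 : (charDegree Ξ : ℂ) =
      ((∑ χ : IrrCharacter G, n χ * charDegree (χ : G → ℂ) : ℕ) : ℂ) := by
    rw [h1]
    push_cast
    have : ∀ (i1 i2 : Fintype (IrrCharacter G)),
        (@Finset.sum _ _ _ (@Finset.univ _ i1)
          (fun χ : IrrCharacter G => classInner Ξ (χ : G → ℂ) * (χ : G → ℂ) 1)) =
        (@Finset.sum _ _ _ (@Finset.univ _ i2)
          (fun χ : IrrCharacter G => (n χ : ℂ) * (charDegree (χ : G → ℂ) : ℂ))) := by
      intro i1 i2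
      have : i1 = i2 := Subsingleton.elim _ _
      subst this
      exact Finset.sum_congr rfl (fun χ _ => by rw [hn χ, Helper79.irr_one])
    exact this _ _
  exact_mod_cast h2

/-- if the degrees of a set of constituents already add up to the degree, these are all the
constituents, with multiplicity one -/
theorem mult_of_degree_sum (Ξ : G → ℂ) (hΞ : IsCharacter G Ξ) (n : IrrCharacter G → ℕ)
    (hn : ∀ χ : IrrCharacter G, classInner Ξ (χ : G → ℂ) = n χ) (d : ℕ)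
    (hd : charDegree Ξ = d) (S : Finset (IrrCharacter G)) (hS : ∀ χ ∈ S, 1 ≤ n χ)
    (hsum : d ≤ ∑ χ ∈ S, charDegree (χ : G → ℂ)) :
    (∀ χ ∈ S, n χ = 1) ∧ (∀ χ : IrrCharacter G, χ ∉ S → n χ = 0) := by
  classical
  haveI : Fintype (IrrCharacter G) := Helper74.irrFintype G
  have htot := charDegree_eq_sum Ξ hΞ n hn
  rw [hd, ← Finset.sum_add_sum_compl S] at htot
  have h1 : ∑ χ ∈ S, charDegree (χ : G → ℂ) ≤ ∑ χ ∈ S, n χ * charDegree (χ : G → ℂ) :=
    Finset.sum_le_sum (fun χ hχ => Nat.le_mul_of_pos_left _ (hS χ hχ))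
  have h2 : ∑ χ ∈ Sᶜ, n χ * charDegree (χ : G → ℂ) = 0 := by omega
  have h3 : ∑ χ ∈ S, n χ * charDegree (χ : G → ℂ) = ∑ χ ∈ S, charDegree (χ : G → ℂ) := by
    omega
  constructor
  · intro χ hχ
    by_contra hne
    have h2' : 2 ≤ n χ := by have := hS χ hχ; omega
    have hpos := Helper79.irr_charDegree_pos χ
    have hlt : ∑ χ ∈ S, charDegree (χ : G → ℂ) < ∑ χ ∈ S, n χ * charDegree (χ : G → ℂ) := by
      apply Finset.sum_lt_sum
      · intro χ' hχ'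
        exact Nat.le_mul_of_pos_left _ (hS χ' hχ')
      · exact ⟨χ, hχ, by nlinarith⟩
    omega
  · intro χ hχ
    have hmem : χ ∈ Sᶜ := Finset.mem_compl.mpr hχ
    have h4 := (Finset.sum_eq_zero_iff.mp h2) χ hmem
    have hpos := Helper79.irr_charDegree_pos χ
    rcases Nat.mul_eq_zero.mp h4 with h | h
    · exact h
    · omega

theorem charDegree_mulConj (ψ ψ₂ : IrrCharacter G) :
    charDegree (mulConj (ψ : G → ℂ) (ψ₂ : G → ℂ)) =
      charDegree (ψ : G → ℂ) * charDegree (ψ₂ : G → ℂ) := by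
  have h := Helper79.isCharacter_one (isCharacter_mulConj ψ ψ₂)
  have h2 : mulConj (ψ : G → ℂ) (ψ₂ : G → ℂ) 1 =
      ((charDegree (ψ : G → ℂ) * charDegree (ψ₂ : G → ℂ) : ℕ) : ℂ) := by
    unfold mulConj
    rw [Helper79.irr_one, Helper79.irr_one]
    simp
  rw [h2] at h
  exact_mod_cast h.symm

open Classical in
/-- **The counting argument in the principal block, boundary case.** -/
theorem principal_counting_eq (hP : Nat.card P = p)
    [((P : Subgroup G).subgroupOf (nor P)).Normal] (hmod : ModCount p P)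
    (ψ ψ₂ : IrrCharacter G)
    (hlin : ∀ μ : IrrCharacter G, charDegree (μ : G → ℂ) = 1 →
      (∀ g : G, p ∣ orderOf g → (μ : G → ℂ) g = 1) →
      classInner (mulConj (ψ : G → ℂ) (ψ : G → ℂ)) (μ : G → ℂ) ≠ 0 → μ = oneIrrG G)
    (hne : ψ ≠ ψ₂)
    (hreg : ∀ g : G, ¬ p ∣ orderOf g → (ψ₂ : G → ℂ) g = (ψ : G → ℂ) g)
    (hfix : pSum P (mulConj (ψ : G → ℂ) (ψ₂ : G → ℂ)) = 0)
    (hz1 : z1Sum P (mulConj (ψ : G → ℂ) (ψ₂ : G → ℂ)) ≤
      (((cen P).relIndex (nor P) : ℕ) : ℝ) ^ 2)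
    (hf2 : 2 ≤ (cen P).relIndex (nor P)) (hfp : 2 * (cen P).relIndex (nor P) + 1 ≤ p)
    (hdeg : charDegree (ψ : G → ℂ) = (cen P).relIndex (nor P))
    {X Y : Set (IrrCharacter G)} {ε : IrrCharacter G → ℤ} {δ : ℤ}
    (D : IsRData P (oneIrr P) X Y ε δ) :
    IsPslData P ψ ψ₂ X Y ε δ := by
  haveI : Finite (IrrCharacter G) := Helper79.irr_finite'
  have hp : p.Prime := Fact.out
  set f := (cen P).relIndex (nor P) with hf
  have hin : inertia P (oneIrr P) = f := inertia_oneIrr P hP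
  have hPi1 := isCharacter_mulConj ψ ψ
  have hPi2 := isCharacter_mulConj ψ ψ₂
  have h1reg : ¬ p ∣ orderOf (1 : G) := by
    rw [orderOf_one]
    exact hp.not_dvd_one
  have hdeg2 : charDegree (ψ₂ : G → ℂ) = f := by
    have e := hreg 1 h1reg
    rw [Helper79.irr_one, Helper79.irr_one] at e
    have : charDegree (ψ₂ : G → ℂ) = charDegree (ψ : G → ℂ) := by exact_mod_cast e
    rw [this, hdeg]
  have hd1 : charDegree (mulConj (ψ : G → ℂ) (ψ : G → ℂ)) = f ^ 2 := by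
    rw [charDegree_mulConj, hdeg]; ring
  have hd2 : charDegree (mulConj (ψ : G → ℂ) (ψ₂ : G → ℂ)) = f ^ 2 := by
    rw [charDegree_mulConj, hdeg, hdeg2]; ring
  -- multiplicities
  have hn₁ : ∀ χ : IrrCharacter G, ∃ n : ℕ,
      classInner (mulConj (ψ : G → ℂ) (ψ : G → ℂ)) (χ : G → ℂ) = n :=
    fun χ => Helper74.isCharacter_inner_irr_nat hPi1 χ
  have hn₂ : ∀ χ : IrrCharacter G, ∃ n : ℕ,
      classInner (mulConj (ψ : G → ℂ) (ψ₂ : G → ℂ)) (χ : G → ℂ) = n :=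
    fun χ => Helper74.isCharacter_inner_irr_nat hPi2 χ
  choose n₁ hn₁ using hn₁
  choose n₂ hn₂ using hn₂
  -- the non-exceptional characters
  have hdiffX : ∀ χ ∈ X, (n₁ χ : ℤ) - n₂ χ = ε χ := by
    intro χ hχ
    have h := classInner_mulConj_sub (p := p) ψ ψ₂ hne hreg (χ : G → ℂ) (ε χ : ℂ)
      (fun g hg => apply_singular_X0 P hP D χ hχ g hg)
    rw [hn₁, hn₂] at h
    have h' : ((((n₁ χ : ℤ) - n₂ χ : ℤ)) : ℂ) = ((ε χ : ℤ) : ℂ) := by
      push_cast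
      rw [h]
      simp
    exact_mod_cast h'
  have hXfin : X.Finite := Set.toFinite X
  have hYfin : Y.Finite := Set.toFinite Y
  have hcardX : hXfin.toFinset.card = f := by
    rw [← hin, ← D.cardX, ← Set.ncard_eq_toFinset_card _ hXfin]
    exact (Nat.card_coe_set_eq _).symm
  -- constituents of `Π₂` have no `P`-fixed points
  have hnofix : ∀ χ : IrrCharacter G, 1 ≤ n₂ χ → pSum P (χ : G → ℂ) = 0 := by
    intro χ hχ
    apply pSum_eq_zero_of_constituent P hP _ hPi2 hfix χ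
    rw [hn₂]
    exact_mod_cast (by omega : n₂ χ ≠ 0)
  -- the minus characters
  have hminus : ∀ χ ∈ X, ε χ = -1 → 1 ≤ n₂ χ ∧ charDegree (χ : G → ℂ) = p - 1 := by
    intro χ hχ hε
    have h1 := hdiffX χ hχ
    rw [hε] at h1
    have h2 : 1 ≤ n₂ χ := by omega
    refine ⟨h2, ?_⟩
    have h3 := hnofix χ h2
    rw [pSum_X0 P hP D χ hχ, hε] at h3
    have h4 : ((charDegree (χ : G → ℂ) : ℤ) : ℂ) = (((p : ℤ) - 1 : ℤ) : ℂ) := by
      push_cast
      linear_combination h3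
    have h5 : (charDegree (χ : G → ℂ) : ℤ) = (p : ℤ) - 1 := by exact_mod_cast h4
    have hp1 : 1 ≤ p := hp.one_lt.le
    omega
  -- the plus characters
  have hone := oneIrrG_mem_X0 P hP D (by omega)
  have hplus : ∀ χ ∈ X, ε χ = 1 → χ ≠ oneIrrG G → p + 1 ≤ charDegree (χ : G → ℂ) := by
    intro χ hχ hε hχ1
    have hdeg := D.degX χ hχ
    rw [hε, hin, Nat.div_self (by omega : 0 < f), charDegree_oneIrr] at hdeg
    have hpos : 0 < charDegree (χ : G → ℂ) := Helper79.irr_charDegree_pos χ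
    have hne1 : charDegree (χ : G → ℂ) ≠ 1 := by
      intro h1
      apply hχ1
      apply hlin χ h1
      · intro g hg
        have := apply_singular_X0 P hP D χ hχ g hg
        rw [this, hε]
        simp
      · rw [hn₁]
        have hd := hdiffX χ hχ
        rw [hε] at hd
        have : n₁ χ ≠ 0 := by omega
        exact_mod_cast this
    have hdvd : (p : ℤ) ∣ (charDegree (χ : G → ℂ) : ℤ) - 1 := by
      have := hdeg.symm.dvd
      simpa using this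
    obtain ⟨k, hk⟩ := hdvd
    have hp0 : (0 : ℤ) < p := by exact_mod_cast hp.pos
    have hk1 : 1 ≤ k := by
      by_contra hk0
      have hk0' : k ≤ 0 := by omega
      have h2 : (p : ℤ) * k ≤ 0 := mul_nonpos_of_nonneg_of_nonpos hp0.le hk0'
      have h3 : (charDegree (χ : G → ℂ) : ℤ) ≤ 1 := by linarith
      have h4 : (0 : ℤ) < (charDegree (χ : G → ℂ) : ℤ) := by exact_mod_cast hpos
      apply hne1
      have : (charDegree (χ : G → ℂ) : ℤ) = 1 := by omega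
      exact_mod_cast this
    have h5 : (p : ℤ) * 1 ≤ (p : ℤ) * k := mul_le_mul_of_nonneg_left hk1 hp0.le
    have : (p : ℤ) + 1 ≤ (charDegree (χ : G → ℂ) : ℤ) := by linarith
    exact_mod_cast this
  -- the two halves of `X`
  set Xp := hXfin.toFinset.filter (fun χ => ε χ = 1) with hXp
  set Xm := hXfin.toFinset.filter (fun χ => ε χ = -1) with hXm
  have hXmeq : hXfin.toFinset.filter (fun χ => ¬ ε χ = 1) = Xm := by
    rw [hXm]
    apply Finset.filter_congr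
    intro χ _
    rcases D.eps χ with h | h <;> rw [h] <;> norm_num
  have hsplit : Xp.card + Xm.card = f := by
    rw [← hcardX, hXp, ← hXmeq]
    exact Finset.card_filter_add_card_filter_not _
  have honeXp : oneIrrG G ∈ Xp := by
    rw [hXp, Finset.mem_filter]
    exact ⟨hXfin.mem_toFinset.mpr hone.1, hone.2⟩
  have hXp1 : 1 ≤ Xp.card := Finset.card_pos.mpr ⟨_, honeXp⟩
  have hdegone : charDegree ((oneIrrG G : IrrCharacter G) : G → ℂ) = 1 := by
    have : ((oneIrrG G : IrrCharacter G) : G → ℂ) 1 = (1 : ℂ) := rfl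
    have h2 := Helper79.irr_one (oneIrrG G)
    rw [this] at h2
    exact_mod_cast h2.symm
  -- the sum of the degrees over `Xp`
  have hSP : 1 + (Xp.card - 1) * (p + 1) ≤ ∑ χ ∈ Xp, charDegree (χ : G → ℂ) := by
    rw [← Finset.add_sum_erase Xp _ honeXp, hdegone]
    have h3 : (Xp.erase (oneIrrG G)).card • (p + 1) ≤
        ∑ χ ∈ Xp.erase (oneIrrG G), charDegree (χ : G → ℂ) := by
      apply Finset.card_nsmul_le_sum
      intro χ hχ
      rw [Finset.mem_erase, hXp, Finset.mem_filter] at hχ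
      exact hplus χ (hXfin.mem_toFinset.mp hχ.2.1) hχ.2.2 hχ.1
    rw [Finset.card_erase_of_mem honeXp, smul_eq_mul] at h3
    omega
  -- the sum of the degrees over `Xm`
  have hallm : ∀ χ ∈ Xm, charDegree (χ : G → ℂ) = p - 1 := by
    intro χ hχ
    rw [hXm, Finset.mem_filter] at hχ
    exact (hminus χ (hXfin.mem_toFinset.mp hχ.1) hχ.2).2
  have hSMnat : ∑ χ ∈ Xm, charDegree (χ : G → ℂ) = Xm.card * (p - 1) := by
    rw [Finset.sum_congr rfl hallm, Finset.sum_const, smul_eq_mul]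
  have hp1 : 1 ≤ p := hp.one_lt.le
  have hSM : ∑ χ ∈ Xm, (charDegree (χ : G → ℂ) : ℤ) = (Xm.card : ℤ) * ((p : ℤ) - 1) := by
    have : ((∑ χ ∈ Xm, charDegree (χ : G → ℂ) : ℕ) : ℤ) = ((Xm.card * (p - 1) : ℕ) : ℤ) := by
      rw [hSMnat]
    push_cast [Nat.cast_sub hp1] at this
    exact this
  -- the relation at `1`
  have hrel1 : ∀ ψ₀ ∈ Y, δ * (charDegree (ψ₀ : G → ℂ) : ℤ) =
      (∑ χ ∈ Xp, (charDegree (χ : G → ℂ) : ℤ)) - (Xm.card : ℤ) * ((p : ℤ) - 1) := by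
    intro ψ₀ hψ₀
    have h := D.rel ψ₀ hψ₀ 1 h1reg
    rw [finsum_mem_eq_finite_toFinset_sum _ hXfin, Helper79.irr_one] at h
    have h2 : ∑ χ ∈ hXfin.toFinset, (ε χ : ℂ) * (χ : G → ℂ) 1 =
        ((∑ χ ∈ hXfin.toFinset, ε χ * (charDegree (χ : G → ℂ) : ℤ) : ℤ) : ℂ) := by
      push_cast
      refine Finset.sum_congr rfl (fun χ _ => ?_)
      rw [Helper79.irr_one]
    rw [h2] at h
    have h3 : δ * (charDegree (ψ₀ : G → ℂ) : ℤ) =
        ∑ χ ∈ hXfin.toFinset, ε χ * (charDegree (χ : G → ℂ) : ℤ) := by exact_mod_cast h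
    rw [h3, ← hSM]
    have h4 : ∑ χ ∈ hXfin.toFinset, ε χ * (charDegree (χ : G → ℂ) : ℤ) =
        ∑ χ ∈ Xp, ε χ * (charDegree (χ : G → ℂ) : ℤ) +
          ∑ χ ∈ hXfin.toFinset.filter (fun χ => ¬ ε χ = 1),
            ε χ * (charDegree (χ : G → ℂ) : ℤ) :=
      (Finset.sum_filter_add_sum_filter_not _ _ _).symm
    rw [h4, hXmeq]
    have h6 : ∑ χ ∈ Xp, ε χ * (charDegree (χ : G → ℂ) : ℤ) =
        ∑ χ ∈ Xp, (charDegree (χ : G → ℂ) : ℤ) := by
      refine Finset.sum_congr rfl (fun χ hχ => ?_)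
      rw [hXp, Finset.mem_filter] at hχ
      rw [hχ.2, one_mul]
    have h7 : ∑ χ ∈ Xm, ε χ * (charDegree (χ : G → ℂ) : ℤ) =
        -∑ χ ∈ Xm, (charDegree (χ : G → ℂ) : ℤ) := by
      rw [← Finset.sum_neg_distrib]
      refine Finset.sum_congr rfl (fun χ hχ => ?_)
      rw [hXm, Finset.mem_filter] at hχ
      rw [hχ.2]
      ring
    rw [h6, h7]
    ring
  -- `z1Sum` over `Xm`
  have hzXm : ((p : ℝ) - 1) * Xm.card ≤ ∑ χ ∈ Xm, z1Sum P (χ : G → ℂ) := by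
    have : Xm.card • ((p : ℝ) - 1) ≤ ∑ χ ∈ Xm, z1Sum P (χ : G → ℂ) := by
      apply Finset.card_nsmul_le_sum
      intro χ hχ
      rw [hXm, Finset.mem_filter] at hχ
      exact z1Sum_X0 P hP D χ (hXfin.mem_toFinset.mp hχ.1) hχ.2
    rw [nsmul_eq_mul] at this
    linarith
  have hXm1 : ∀ χ ∈ Xm, 1 ≤ n₂ χ := by
    intro χ hχ
    rw [hXm, Finset.mem_filter] at hχ
    exact (hminus χ (hXfin.mem_toFinset.mp hχ.1) hχ.2).1
  have hXmconst : ∀ χ ∈ Xm, classInner (mulConj (ψ : G → ℂ) (ψ₂ : G → ℂ)) (χ : G → ℂ) ≠ 0 := by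
    intro χ hχ
    have := hXm1 χ hχ
    rw [hn₂]
    exact_mod_cast (by omega : n₂ χ ≠ 0)
  have hXp1' : ∀ χ ∈ Xp, 1 ≤ n₁ χ := by
    intro χ hχ
    rw [hXp, Finset.mem_filter] at hχ
    have := hdiffX χ (hXfin.mem_toFinset.mp hχ.1)
    rw [hχ.2] at this
    omega
  -- `Y` is nonempty
  have hfdvd : f ∣ p - 1 := relIndex_cen_nor_dvd P hP
  have hYne : Y.Nonempty := by
    have h1 : 0 < Nat.card Y := by
      rw [D.cardY, hin]
      have hp1 : 0 < p - 1 := by omega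
      exact Nat.div_pos (Nat.le_of_dvd hp1 hfdvd) (by omega)
    have : Nonempty Y := (Nat.card_pos_iff.mp h1).1
    obtain ⟨ψ₀, hψ₀⟩ := this
    exact ⟨ψ₀, hψ₀⟩
  -- the difference over `Y`
  have hY := classInner_mulConj_sub (p := p) ψ ψ₂ hne hreg
    (fun g => ∑ᶠ ψ₀ ∈ Y, (ψ₀ : G → ℂ) g) (-(δ : ℂ))
    (fun g hg => finsum_Y0_singular P hP hmod D g hg)
  have hfun : (fun g => ∑ᶠ ψ₀ ∈ Y, (ψ₀ : G → ℂ) g) =
      ∑ ψ₀ ∈ hYfin.toFinset, (ψ₀ : G → ℂ) := by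
    funext g
    rw [finsum_mem_eq_finite_toFinset_sum _ hYfin, Finset.sum_apply]
  rw [hfun, Helper74.classInner_sum_right, Helper74.classInner_sum_right] at hY
  have e1 : ∑ ψ₀ ∈ hYfin.toFinset, classInner (mulConj (ψ : G → ℂ) (ψ : G → ℂ)) (ψ₀ : G → ℂ) =
      ∑ ψ₀ ∈ hYfin.toFinset, (n₁ ψ₀ : ℂ) := Finset.sum_congr rfl (fun χ _ => hn₁ χ)
  have e2 : ∑ ψ₀ ∈ hYfin.toFinset, classInner (mulConj (ψ : G → ℂ) (ψ₂ : G → ℂ)) (ψ₀ : G → ℂ) =
      ∑ ψ₀ ∈ hYfin.toFinset, (n₂ ψ₀ : ℂ) := Finset.sum_congr rfl (fun χ _ => hn₂ χ)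
  rw [e1, e2] at hY
  have hY' : (((∑ ψ₀ ∈ hYfin.toFinset, (n₁ ψ₀ : ℤ)) - ∑ ψ₀ ∈ hYfin.toFinset, (n₂ ψ₀ : ℤ) : ℤ) : ℂ) =
      ((-δ : ℤ) : ℂ) := by
    push_cast
    rw [hY]
    simp
  have hY'' : (∑ ψ₀ ∈ hYfin.toFinset, (n₁ ψ₀ : ℤ)) - ∑ ψ₀ ∈ hYfin.toFinset, (n₂ ψ₀ : ℤ) = -δ := by
    exact_mod_cast hY'
  have hdisjXY : ∀ χ : IrrCharacter G, χ ∈ X → χ ∉ Y := fun χ h1 h2 =>
    Set.disjoint_left.mp D.disj h1 h2
  -- conversion of the conclusions
  have hconv : ∀ (S₁ S₂ : Finset (IrrCharacter G)),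
      (∀ χ ∈ S₁, n₁ χ = 1) → (∀ χ, χ ∉ S₁ → n₁ χ = 0) →
      (∀ χ ∈ S₂, n₂ χ = 1) → (∀ χ, χ ∉ S₂ → n₂ χ = 0) →
      (∀ χ ∈ X, (χ ∈ S₁ ↔ ε χ = 1)) → (∀ χ ∈ X, (χ ∈ S₂ ↔ ε χ = -1)) →
      (∀ χ ∈ S₁, χ ∈ X ∨ χ ∈ Y) → (∀ χ ∈ S₂, χ ∈ X ∨ χ ∈ Y) →
      ((hYfin.toFinset.filter (fun χ => χ ∈ S₁)).card = if δ = 1 then 0 else 1) →
      ((hYfin.toFinset.filter (fun χ => χ ∈ S₂)).card = if δ = 1 then 1 else 0) →
      2 * f + 1 = p →
      (∀ χ ∈ X, ε χ = 1 → χ ≠ oneIrrG G → charDegree (χ : G → ℂ) = p + 1) →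
      (∀ ψ₀ ∈ Y, charDegree (ψ₀ : G → ℂ) = if δ = 1 then f else f + 1) →
      IsPslData P ψ ψ₂ X Y ε δ := by
    intro S₁ S₂ a1 a0 b1 b0 hS1X hS2X hS1 hS2 c1 c2 hpf hdXp hdY
    have hN1 : ∀ χ, n₁ χ = if χ ∈ S₁ then 1 else 0 := by
      intro χ
      split_ifs with h
      · exact a1 χ h
      · exact a0 χ h
    have hN2 : ∀ χ, n₂ χ = if χ ∈ S₂ then 1 else 0 := by
      intro χ
      split_ifs with h
      · exact b1 χ h
      · exact b0 χ h
    refine ⟨D, hpf, hdXp, fun χ hχ hε => (hminus χ hχ hε).2, hdY, ?_, ?_, ?_, ?_, ?_, ?_⟩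
    · intro χ hχ
      rw [hn₁, hN1]
      by_cases h : ε χ = 1
      · rw [if_pos ((hS1X χ hχ).mpr h), if_pos h]; simp
      · rw [if_neg (fun h' => h ((hS1X χ hχ).mp h')), if_neg h]; simp
    · intro χ hχ
      rw [hn₂, hN2]
      by_cases h : ε χ = 1
      · have : ¬ ε χ = -1 := by rw [h]; norm_num
        rw [if_neg (fun h' => this ((hS2X χ hχ).mp h')), if_pos h]; simp
      · have : ε χ = -1 := by rcases D.eps χ with h' | h'; exact absurd h' h; exact h'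
        rw [if_pos ((hS2X χ hχ).mpr this), if_neg h]; simp
    · rw [finsum_mem_eq_finite_toFinset_sum _ hYfin]
      have : ∑ ψ₀ ∈ hYfin.toFinset,
          classInner (mulConj (ψ : G → ℂ) (ψ : G → ℂ)) (ψ₀ : G → ℂ) =
          ∑ ψ₀ ∈ hYfin.toFinset, if ψ₀ ∈ S₁ then (1 : ℂ) else 0 := by
        refine Finset.sum_congr rfl (fun χ _ => ?_)
        rw [hn₁, hN1]; split_ifs <;> simp
      rw [this, ← Finset.sum_filter, Finset.sum_const, c1]
      split_ifs <;> simp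
    · rw [finsum_mem_eq_finite_toFinset_sum _ hYfin]
      have : ∑ ψ₀ ∈ hYfin.toFinset,
          classInner (mulConj (ψ : G → ℂ) (ψ₂ : G → ℂ)) (ψ₀ : G → ℂ) =
          ∑ ψ₀ ∈ hYfin.toFinset, if ψ₀ ∈ S₂ then (1 : ℂ) else 0 := by
        refine Finset.sum_congr rfl (fun χ _ => ?_)
        rw [hn₂, hN2]; split_ifs <;> simp
      rw [this, ← Finset.sum_filter, Finset.sum_const, c2]
      split_ifs <;> simp
    · intro χ hX hY
      rw [hn₁, hN1, if_neg]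
      · simp
      · intro h
        rcases hS1 χ h with h' | h'
        · exact hX h'
        · exact hY h'
    · intro χ hX hY
      rw [hn₂, hN2, if_neg]
      · simp
      · intro h
        rcases hS2 χ h with h' | h'
        · exact hX h'
        · exact hY h'
  have hXpX : ∀ χ ∈ Xp, χ ∈ X := by
    intro χ hχ
    rw [hXp, Finset.mem_filter] at hχ
    exact hXfin.mem_toFinset.mp hχ.1
  have hXmX : ∀ χ ∈ Xm, χ ∈ X := by
    intro χ hχ
    rw [hXm, Finset.mem_filter] at hχ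
    exact hXfin.mem_toFinset.mp hχ.1
  have hXpiff : ∀ χ ∈ X, (χ ∈ Xp ↔ ε χ = 1) := by
    intro χ hχ
    rw [hXp, Finset.mem_filter]
    exact ⟨fun h => h.2, fun h => ⟨hXfin.mem_toFinset.mpr hχ, h⟩⟩
  have hXmiff : ∀ χ ∈ X, (χ ∈ Xm ↔ ε χ = -1) := by
    intro χ hχ
    rw [hXm, Finset.mem_filter]
    exact ⟨fun h => h.2, fun h => ⟨hXfin.mem_toFinset.mpr hχ, h⟩⟩
  -- degrees of `Xp` from the equality
  have hdXp_of : (∑ χ ∈ Xp, charDegree (χ : G → ℂ)) = 1 + (Xp.card - 1) * (p + 1) →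
      ∀ χ ∈ X, ε χ = 1 → χ ≠ oneIrrG G → charDegree (χ : G → ℂ) = p + 1 := by
    intro heq χ hχ hε hχ1
    by_contra hcon
    have hlt : p + 1 < charDegree (χ : G → ℂ) :=
      lt_of_le_of_ne (hplus χ hχ hε hχ1) (Ne.symm hcon)
    have hχXp : χ ∈ Xp := (hXpiff χ hχ).mpr hε
    have hχer : χ ∈ Xp.erase (oneIrrG G) := Finset.mem_erase.mpr ⟨hχ1, hχXp⟩
    rw [← Finset.add_sum_erase Xp _ honeXp, hdegone] at heq
    have h3 : (Xp.erase (oneIrrG G)).card • (p + 1) <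
        ∑ χ ∈ Xp.erase (oneIrrG G), charDegree (χ : G → ℂ) := by
      rw [← Finset.sum_const]
      apply Finset.sum_lt_sum
      · intro χ' hχ'
        rw [Finset.mem_erase] at hχ'
        exact hplus χ' (hXpX χ' hχ'.2) ((hXpiff χ' (hXpX χ' hχ'.2)).mp hχ'.2) hχ'.1
      · exact ⟨χ, hχer, hlt⟩
    rw [Finset.card_erase_of_mem honeXp, smul_eq_mul] at h3
    omega
  rcases D.del with hδ | hδ
  · -- `δ = 1`
    rw [hδ] at hY''
    have hex : ∃ ψ₀ ∈ hYfin.toFinset, 1 ≤ n₂ ψ₀ := by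
      by_contra hcon
      simp only [not_exists, not_and, not_le] at hcon
      have h0 : ∑ ψ₀ ∈ hYfin.toFinset, (n₂ ψ₀ : ℤ) = 0 := by
        apply Finset.sum_eq_zero
        intro χ hχ
        have := hcon χ hχ
        have : n₂ χ = 0 := by omega
        rw [this]
        rfl
      have h1 : 0 ≤ ∑ ψ₀ ∈ hYfin.toFinset, (n₁ ψ₀ : ℤ) :=
        Finset.sum_nonneg (fun _ _ => by positivity)
      omega
    obtain ⟨ψ₀, hψ₀, hn⟩ := hex
    have hψ₀Y : ψ₀ ∈ Y := hYfin.mem_toFinset.mp hψ₀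
    have hd0 : charDegree (ψ₀ : G → ℂ) = f := by
      have h3 := hnofix ψ₀ hn
      rw [pSum_Y0 P hP hmod D ψ₀ hψ₀Y, hδ] at h3
      have h4 : ((charDegree (ψ₀ : G → ℂ) : ℤ) : ℂ) = ((f : ℤ) : ℂ) := by
        push_cast
        linear_combination h3
      exact_mod_cast h4
    have hrel := hrel1 ψ₀ hψ₀Y
    rw [hδ, one_mul, hd0] at hrel
    have hψ₀X : ψ₀ ∉ Xm := fun h => hdisjXY ψ₀ (hXmX ψ₀ h) hψ₀Y
    have hz := z1Sum_ge_sum P _ hPi2 (insert ψ₀ Xm) (by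
      intro χ hχ
      rw [Finset.mem_insert] at hχ
      rcases hχ with rfl | hχ
      · rw [hn₂]
        exact_mod_cast (by omega : n₂ χ ≠ 0)
      · exact hXmconst χ hχ)
    rw [Finset.sum_insert hψ₀X] at hz
    have hzY := z1Sum_Y0 P hP D ψ₀ hψ₀Y hδ
    have hfinal : ((p : ℝ) - 1) * Xm.card + f ≤ (f : ℝ) ^ 2 := by linarith
    obtain ⟨hpf, hSPeq, hmf, hSPf⟩ := arith_pos_eq f p Xp.card Xm.card hf2 hfp hsplit hXp1 _ hSP
      (by push_cast at hrel ⊢; linarith) hfinal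
    -- all exceptional characters have degree `f`
    have hdY : ∀ ψ' ∈ Y, charDegree (ψ' : G → ℂ) = if δ = 1 then f else f + 1 := by
      intro ψ' hψ'
      rw [if_pos hδ]
      have h1 := hrel1 ψ' hψ'
      have h2 := hrel1 ψ₀ hψ₀Y
      rw [hδ, one_mul] at h1 h2
      rw [hd0] at h2
      have : (charDegree (ψ' : G → ℂ) : ℤ) = (f : ℤ) := by rw [h1, ← h2]
      exact_mod_cast this
    -- the decomposition of `Π₂`
    obtain ⟨b1, b0⟩ := mult_of_degree_sum _ hPi2 n₂ hn₂ (f ^ 2) hd2 (insert ψ₀ Xm) (by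
      intro χ hχ
      rw [Finset.mem_insert] at hχ
      rcases hχ with rfl | hχ
      · exact hn
      · exact hXm1 χ hχ) (by
      rw [Finset.sum_insert hψ₀X, hd0, hSMnat]; omega)
    -- the decomposition of `Π₁`
    obtain ⟨a1, a0⟩ := mult_of_degree_sum _ hPi1 n₁ hn₁ (f ^ 2) hd1 Xp hXp1' (by
      rw [hSPf])
    apply hconv Xp (insert ψ₀ Xm) a1 a0 b1 b0 hXpiff
    · intro χ hχ
      rw [Finset.mem_insert]
      constructor
      · rintro (rfl | h)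
        · exact absurd hχ (fun h => hdisjXY _ h hψ₀Y)
        · exact (hXmiff χ hχ).mp h
      · intro h
        exact Or.inr ((hXmiff χ hχ).mpr h)
    · intro χ hχ; exact Or.inl (hXpX χ hχ)
    · intro χ hχ
      rw [Finset.mem_insert] at hχ
      rcases hχ with rfl | hχ
      · exact Or.inr hψ₀Y
      · exact Or.inl (hXmX χ hχ)
    · rw [if_pos hδ, Finset.card_eq_zero, Finset.filter_eq_empty_iff]
      intro χ hχ h
      exact hdisjXY χ (hXpX χ h) (hYfin.mem_toFinset.mp hχ)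
    · rw [if_pos hδ]
      have : hYfin.toFinset.filter (fun χ => χ ∈ insert ψ₀ Xm) = {ψ₀} := by
        ext χ
        rw [Finset.mem_filter, Finset.mem_singleton, Finset.mem_insert]
        constructor
        · rintro ⟨h1, rfl | h2⟩
          · rfl
          · exact absurd (hYfin.mem_toFinset.mp h1) (hdisjXY χ (hXmX χ h2))
        · rintro rfl
          exact ⟨hψ₀, Or.inl rfl⟩
      rw [this, Finset.card_singleton]
    · exact hpf
    · exact hdXp_of hSPeq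
    · exact hdY
  · -- `δ = -1`
    rw [hδ] at hY''
    obtain ⟨ψ₀, hψ₀Y⟩ := hYne
    have hrel := hrel1 ψ₀ hψ₀Y
    rw [hδ] at hrel
    have hz := z1Sum_ge_sum P _ hPi2 Xm hXmconst
    have hfinal : ((p : ℝ) - 1) * Xm.card ≤ (f : ℝ) ^ 2 := by linarith
    have hcong : (charDegree (ψ₀ : G → ℂ) : ℤ) ≡ -(f : ℤ) [ZMOD p] := by
      have := D.degY ψ₀ hψ₀Y
      rw [hδ, charDegree_oneIrr, mul_one] at this
      simpa using this
    obtain ⟨hpf, hSPeq, hmf, hd0, hSPd⟩ := arith_neg_eq f p Xp.card Xm.card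
      (charDegree (ψ₀ : G → ℂ)) hf2 hfp hsplit hXp1
      (Helper79.irr_charDegree_pos ψ₀) _ hSP (by push_cast at hrel ⊢; linarith) hcong hfinal
    have hδne : ¬ δ = 1 := by rw [hδ]; norm_num
    have hdY : ∀ ψ' ∈ Y, charDegree (ψ' : G → ℂ) = if δ = 1 then f else f + 1 := by
      intro ψ' hψ'
      rw [if_neg hδne]
      have h1 := hrel1 ψ' hψ'
      have h2 := hrel1 ψ₀ hψ₀Y
      rw [hδ] at h1 h2
      have : (charDegree (ψ' : G → ℂ) : ℤ) = (charDegree (ψ₀ : G → ℂ) : ℤ) := by linarith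
      rw [← hd0]
      exact_mod_cast this
    -- the decomposition of `Π₂`
    obtain ⟨b1, b0⟩ := mult_of_degree_sum _ hPi2 n₂ hn₂ (f ^ 2) hd2 Xm hXm1 (by
      rw [hSMnat, hmf])
    -- an exceptional constituent of `Π₁`
    have hex : ∃ ψ₁ ∈ hYfin.toFinset, 1 ≤ n₁ ψ₁ := by
      by_contra hcon
      simp only [not_exists, not_and, not_le] at hcon
      have h0 : ∑ ψ₀ ∈ hYfin.toFinset, (n₁ ψ₀ : ℤ) = 0 := by
        apply Finset.sum_eq_zero
        intro χ hχ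
        have := hcon χ hχ
        have : n₁ χ = 0 := by omega
        rw [this]
        rfl
      have h1 : 0 ≤ ∑ ψ₀ ∈ hYfin.toFinset, (n₂ ψ₀ : ℤ) :=
        Finset.sum_nonneg (fun _ _ => by positivity)
      omega
    obtain ⟨ψ₁, hψ₁, hn1⟩ := hex
    have hψ₁Y : ψ₁ ∈ Y := hYfin.mem_toFinset.mp hψ₁
    have hψ₁X : ψ₁ ∉ Xp := fun h => hdisjXY ψ₁ (hXpX ψ₁ h) hψ₁Y
    have hd1' : charDegree (ψ₁ : G → ℂ) = f + 1 := by
      have := hdY ψ₁ hψ₁Y
      rw [if_neg hδne] at this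
      exact this
    obtain ⟨a1, a0⟩ := mult_of_degree_sum _ hPi1 n₁ hn₁ (f ^ 2) hd1 (insert ψ₁ Xp) (by
      intro χ hχ
      rw [Finset.mem_insert] at hχ
      rcases hχ with rfl | hχ
      · exact hn1
      · exact hXp1' χ hχ) (by
      rw [Finset.sum_insert hψ₁X, hd1']
      rw [hd0] at hSPd
      omega)
    apply hconv (insert ψ₁ Xp) Xm a1 a0 b1 b0 _ hXmiff
    · intro χ hχ
      rw [Finset.mem_insert] at hχ
      rcases hχ with rfl | hχ
      · exact Or.inr hψ₁Y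
      · exact Or.inl (hXpX χ hχ)
    · intro χ hχ; exact Or.inl (hXmX χ hχ)
    · rw [if_neg hδne]
      have : hYfin.toFinset.filter (fun χ => χ ∈ insert ψ₁ Xp) = {ψ₁} := by
        ext χ
        rw [Finset.mem_filter, Finset.mem_singleton, Finset.mem_insert]
        constructor
        · rintro ⟨h1, rfl | h2⟩
          · rfl
          · exact absurd (hYfin.mem_toFinset.mp h1) (hdisjXY χ (hXpX χ h2))
        · rintro rfl
          exact ⟨hψ₁, Or.inl rfl⟩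
      rw [this, Finset.card_singleton]
    · rw [if_neg hδne, Finset.card_eq_zero, Finset.filter_eq_empty_iff]
      intro χ hχ h
      exact hdisjXY χ (hXmX χ h) (hYfin.mem_toFinset.mp hχ)
    · exact hpf
    · exact hdXp_of hSPeq
    · exact hdY
    · intro χ hχ
      rw [Finset.mem_insert]
      constructor
      · rintro (rfl | h)
        · exact absurd hχ (fun h => hdisjXY _ h hψ₁Y)
        · exact (hXpiff χ hχ).mp h
      · intro h
        exact Or.inr ((hXpiff χ hχ).mpr h)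

end Cfsg.Agent.Helper57.BP
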