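import Cfsg.Agent.Helper57.BH.Final

/-!
# Brauer's theorem on faithful characters of degree `(p-1)/2` (S4504): definitions

`IsPslData P ψ ψ₂ X Y ε δ` bundles the outcome of the counting argument in the principal block in
the boundary case `ψ(1) = (p-1)/2`: the degrees of the characters of the principal block and the
decompositions of `ψ ψ̄` and `ψ ψ̄₂`.
-/

set_option autoImplicit false

namespace Cfsg.Agent.Helper57.BP

open Cfsg Cfsg.Agent.Helper16 Cfsg.Agent.Helper16.DefOne Cfsg.Agent.Helper82.DefOne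
  Cfsg.Agent.Helper77.DefOne Cfsg.Agent.Helper57.BH
open scoped ComplexConjugate

universe u

variable {G : Type u} [Group G] [Fintype G] {p : ℕ} [Fact p.Prime]

open Classical in
/-- the outcome of the counting argument in the boundary case -/
structure IsPslData (P : Sylow p G) (ψ ψ₂ : IrrCharacter G) (X Y : Set (IrrCharacter G))
    (ε : IrrCharacter G → ℤ) (δ : ℤ) : Prop where
  D : IsRData P (oneIrr P) X Y ε δ
  hpf : 2 * (cen P).relIndex (nor P) + 1 = p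
  degXp : ∀ χ ∈ X, ε χ = 1 → χ ≠ oneIrrG G → charDegree (χ : G → ℂ) = p + 1
  degXm : ∀ χ ∈ X, ε χ = -1 → charDegree (χ : G → ℂ) = p - 1
  degY : ∀ ψ₀ ∈ Y, charDegree (ψ₀ : G → ℂ) =
    if δ = 1 then (cen P).relIndex (nor P) else (cen P).relIndex (nor P) + 1
  n1X : ∀ χ ∈ X, classInner (mulConj (ψ : G → ℂ) (ψ : G → ℂ)) (χ : G → ℂ) =
    if ε χ = 1 then 1 else 0
  n2X : ∀ χ ∈ X, classInner (mulConj (ψ : G → ℂ) (ψ₂ : G → ℂ)) (χ : G → ℂ) =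
    if ε χ = 1 then 0 else 1
  n1Y : ∑ᶠ ψ₀ ∈ Y, classInner (mulConj (ψ : G → ℂ) (ψ : G → ℂ)) (ψ₀ : G → ℂ) =
    if δ = 1 then 0 else 1
  n2Y : ∑ᶠ ψ₀ ∈ Y, classInner (mulConj (ψ : G → ℂ) (ψ₂ : G → ℂ)) (ψ₀ : G → ℂ) =
    if δ = 1 then 1 else 0
  n1out : ∀ χ : IrrCharacter G, χ ∉ X → χ ∉ Y →
    classInner (mulConj (ψ : G → ℂ) (ψ : G → ℂ)) (χ : G → ℂ) = 0
  n2out : ∀ χ : IrrCharacter G, χ ∉ X → χ ∉ Y →
    classInner (mulConj (ψ : G → ℂ) (ψ₂ : G → ℂ)) (χ : G → ℂ) = 0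

open Classical in
/-- the two exceptional characters `ψ`, `ψ₂` of the block of `θ` (`δ = 1`), their rows and their
restrictions to `C_G(P)` -/
structure IsExcPair (P : Sylow p G) (θ : IrrCharacter (cen P)) (ψ ψ₂ : IrrCharacter G)
    (φ₀ φ₂ : IrrCharacter (cen P)) (Xθ Yθ : Set (IrrCharacter G))
    (εθ : IrrCharacter G → ℤ) : Prop where
  hθ : IsCanon P θ
  Dθ : IsRData P θ Xθ Yθ εθ 1
  hψ : ψ ∈ Yθ
  hψ₂ : ψ₂ ∈ Yθ
  hne : ψ ≠ ψ₂
  h1 : can P φ₀ = θ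
  h2 : ¬ IsCanon P φ₀
  h1' : can P φ₂ = θ
  h2' : ¬ IsCanon P φ₂
  hrow : ∀ φ : IrrCharacter (cen P),
    rowZ P ψ φ = if φ ∈ MulAction.orbit (nor P) φ₀ then 1 else 0
  hrow₂ : ∀ φ : IrrCharacter (cen P),
    rowZ P ψ₂ φ = if φ ∈ MulAction.orbit (nor P) φ₂ then 1 else 0
  hsum : IsOrbitSum P ψ φ₀
  hsum₂ : IsOrbitSum P ψ₂ φ₂
  hns : ∀ φ ∈ MulAction.orbit (nor P) φ₀, ∀ φ' ∈ MulAction.orbit (nor P) φ₂, ¬ SameP P φ φ'
  hreg : ∀ g : G, ¬ p ∣ orderOf g → (ψ₂ : G → ℂ) g = (ψ : G → ℂ) g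
  hdegθ : charDegree (θ : cen P → ℂ) = 1
  hdeg : charDegree (ψ : G → ℂ) = (cen P).relIndex (nor P)
  hdeg₂ : charDegree (ψ₂ : G → ℂ) = (cen P).relIndex (nor P)

/-- the class-constant sum `∑_{χ ∈ S} χ(u) χ(v) conj χ(w) / χ(1)` -/
noncomputable def tsum (S : Set (IrrCharacter G)) (u v w : G) : ℂ :=
  ∑ᶠ χ ∈ S, (χ : G → ℂ) u * (χ : G → ℂ) v * conj ((χ : G → ℂ) w) / (χ : G → ℂ) 1

/-- the irreducible characters with the same central character as `ψ` -/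
def overChar (ψ : IrrCharacter G) : Set (IrrCharacter G) :=
  {χ | ∀ ζ ∈ Subgroup.center G, (χ : G → ℂ) ζ * (ψ : G → ℂ) 1 = (ψ : G → ℂ) ζ * (χ : G → ℂ) 1}

/-- the irreducible characters with the centre in their kernel -/
def overOne (G : Type u) [Group G] : Set (IrrCharacter G) :=
  {χ | ∀ ζ ∈ Subgroup.center G, (χ : G → ℂ) ζ = (χ : G → ℂ) 1}

end Cfsg.Agent.Helper57.BP
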