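import Cfsg.Agent.Helper57.BP.CountingEq
import Cfsg.Agent.Helper57.BP.CountingLin
import Cfsg.Agent.Helper57.BP.Weak

/-!
# S4504: the structure of a character of degree `(p-1)/2` (assembly of the first part)
-/

set_option autoImplicit false

namespace Cfsg.Agent.Helper57.BP

open Cfsg Cfsg.Agent.Helper16 Cfsg.Agent.Helper16.DefOne Cfsg.Agent.Helper82.DefOne
  Cfsg.Agent.Helper77.DefOne Cfsg.Agent.Helper57.BH
open scoped ComplexConjugate

universe u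

variable {G : Type u} [Group G] [Fintype G] {p : ℕ} [Fact p.Prime] (P : Sylow p G)

open Classical in
/-- an exceptional character of the block of `θ` with `δ = 1` and degree `< p`: rows and
restriction to `C_G(P)` -/
theorem exists_orbitSum_of_mem_Y (hP : Nat.card P = p)
    [((P : Subgroup G).subgroupOf (nor P)).Normal] (hmod : ModCount p P)
    (θ : IrrCharacter (cen P)) (hθ : IsCanon P θ)
    {X Y : Set (IrrCharacter G)} {ε : IrrCharacter G → ℤ} (D : IsRData P θ X Y ε 1)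
    (ψ : IrrCharacter G) (hψ : ψ ∈ Y) (hdeg : charDegree (ψ : G → ℂ) < p) :
    ∃ φ₀ : IrrCharacter (cen P), can P φ₀ = θ ∧ ¬ IsCanon P φ₀ ∧
      (∀ φ : IrrCharacter (cen P),
        rowZ P ψ φ = if φ ∈ MulAction.orbit (nor P) φ₀ then 1 else 0) ∧
      charDegree (ψ : G → ℂ) = (cen P).relIndex (nor P) * charDegree (θ : cen P → ℂ) ∧
      IsOrbitSum P ψ φ₀ := by
  obtain ⟨φ₀, h1, h2, hrow0⟩ := D.rowY ψ hψ
  have hrow := rowZ_eq_of_mem_Y P hP hmod θ hθ D ψ hψ φ₀ h1 h2 hrow0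
  obtain ⟨hd, hsum⟩ := orbitSum_of_mem_Y P hP hmod θ hθ D ψ hψ φ₀ h1 h2 hrow rfl hdeg
  exact ⟨φ₀, h1, h2, hrow, hd, hsum⟩

open Classical in
/-- **The structure of a faithful-like character of degree `(p-1)/2`.** -/
theorem exists_excPair (hP : Nat.card P = p)
    [((P : Subgroup G).subgroupOf (nor P)).Normal] (hmod : ModCount p P)
    (ψ : IrrCharacter G)
    (hlin : ∀ μ : IrrCharacter G, charDegree (μ : G → ℂ) = 1 →
      (∀ g : G, p ∣ orderOf g → (μ : G → ℂ) g = 1) →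
      classInner (mulConj (ψ : G → ℂ) (ψ : G → ℂ)) (μ : G → ℂ) ≠ 0 → μ = oneIrrG G)
    (hdegp : 2 * charDegree (ψ : G → ℂ) + 1 = p)
    (hnc : ∃ x : G, x ∈ (P : Subgroup G) ∧ x ∉ Helper74.charCenter ψ) :
    ∃ (θ : IrrCharacter (cen P)) (ψ₂ : IrrCharacter G) (φ₀ φ₂ : IrrCharacter (cen P))
      (Xθ Yθ : Set (IrrCharacter G)) (εθ : IrrCharacter G → ℤ)
      (X Y : Set (IrrCharacter G)) (ε : IrrCharacter G → ℤ) (δ : ℤ),
      IsExcPair P θ ψ ψ₂ φ₀ φ₂ Xθ Yθ εθ ∧ IsPslData P ψ ψ₂ X Y ε δ ∧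
        IsPslData P ψ₂ ψ X Y ε δ := by
  have hp : p.Prime := Fact.out
  have hker : ∃ y : G, y ∈ (P : Subgroup G) ∧ (ψ : G → ℂ) y ≠ (ψ : G → ℂ) 1 := by
    by_contra hcon
    obtain ⟨x, hx, hxc⟩ := hnc
    apply hxc
    have hker' : (ψ : G → ℂ) x = (ψ : G → ℂ) 1 := by
      by_contra h
      exact hcon ⟨x, hx, h⟩
    rw [Helper74.mem_charCenter_iff, hker', Helper79.irr_one]
    simp
  have hpos := Helper79.irr_charDegree_pos ψ
  have hnd : ¬ p ∣ charDegree (ψ : G → ℂ) := Nat.not_dvd_of_pos_of_lt hpos (by omega)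
  obtain ⟨θ, hθ, hψR⟩ := (not_dvd_degree_iff P hP hmod ψ).mp hnd
  obtain ⟨Xθ, Yθ, εθ, δθ, Dθ⟩ := exists_isRData P hP hmod θ hθ
  have hψY : ψ ∈ Yθ := by
    rw [Dθ.union] at hψR
    rcases hψR with h | h
    · exact absurd h (not_mem_X_of_le P hP θ hθ Dθ ψ (by omega) hker)
    · exact h
  obtain ⟨φ₀, h1, h2, hrow0⟩ := Dθ.rowY ψ hψY
  have hrow := rowZ_eq_of_mem_Y P hP hmod θ hθ Dθ ψ hψY φ₀ h1 h2 hrow0
  have hδ := delta_eq_one_of_le P hP hmod θ hθ Dθ ψ hψY φ₀ h1 h2 hrow (by omega) hker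
  subst hδ
  obtain ⟨hdeg, hsum⟩ :=
    orbitSum_of_mem_Y P hP hmod θ hθ Dθ ψ hψY φ₀ h1 h2 hrow rfl (by omega)
  have hθpos : 0 < charDegree (θ : cen P → ℂ) :=
    Nat.pos_of_ne_zero (charDegree_ne_zero' θ)
  have hfpos : 0 < (cen P).relIndex (nor P) := relIndex_pos P
  have hf1 : (cen P).relIndex (nor P) ≠ 1 := by
    intro hf1
    -- `N = C`: `ψ|_C = φ₀`, so `P` is in the centre of `ψ`
    obtain ⟨x, hx, hxc⟩ := hnc
    apply hxc
    have hle : nor P ≤ cen P := Subgroup.relIndex_eq_one.mp hf1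
    have horb : MulAction.orbit (nor P) φ₀ = {φ₀} := by
      ext φ
      constructor
      · rintro ⟨n, rfl⟩
        exact smul_eq_of_mem_cen P n φ₀ (hle n.2)
      · intro h
        rw [Set.mem_singleton_iff] at h
        rw [h]
        exact MulAction.mem_orbit_self _
    have hval : ∀ c : cen P, (ψ : G → ℂ) (c : G) = (φ₀ : cen P → ℂ) c := by
      intro c
      rw [hsum c, horb, finsum_mem_singleton]
    have hxc : (⟨x, le_cen P hP hx⟩ : cen P) ∈ Helper74.charCenter φ₀ := by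
      apply Helper74.center_le_charCenter φ₀
      apply subgroupOf_cen_le_center P hP
      rw [Subgroup.mem_subgroupOf]
      exact hx
    rw [Helper74.mem_charCenter_iff] at hxc ⊢
    have e1 := hval ⟨x, le_cen P hP hx⟩
    have e2 := hval 1
    rw [Subgroup.coe_one, Helper79.irr_one, Helper79.irr_one] at e2
    have e3 : charDegree (ψ : G → ℂ) = charDegree (φ₀ : cen P → ℂ) := by exact_mod_cast e2
    show ‖(ψ : G → ℂ) x‖ = _
    rw [show (ψ : G → ℂ) x = (φ₀ : cen P → ℂ) ⟨x, le_cen P hP hx⟩ from e1, hxc, e3]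
  have hf2 : 2 ≤ (cen P).relIndex (nor P) := by omega
  have hfle : (cen P).relIndex (nor P) ≤ charDegree (ψ : G → ℂ) := by
    rw [hdeg]
    exact Nat.le_mul_of_pos_right _ hθpos
  obtain ⟨φ₂, h1', h2', hns⟩ := exists_second P hP θ hθ φ₀ h1 h2 (by omega)
  obtain ⟨ψ₂, hψ₂Y, hne0⟩ := Dθ.exY φ₂ h1' h2'
  obtain ⟨φ₀', g1, g2, grow0⟩ := Dθ.rowY ψ₂ hψ₂Y
  have grow' := rowZ_eq_of_mem_Y P hP hmod θ hθ Dθ ψ₂ hψ₂Y φ₀' g1 g2 grow0
  have hmem : φ₂ ∈ MulAction.orbit (nor P) φ₀' := by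
    by_contra hcon
    apply hne0
    rw [grow' φ₂, if_neg hcon]
  have horb : MulAction.orbit (nor P) φ₀' = MulAction.orbit (nor P) φ₂ :=
    (MulAction.orbit_eq_iff.mpr hmem).symm
  have grow : ∀ φ : IrrCharacter (cen P),
      rowZ P ψ₂ φ = if φ ∈ MulAction.orbit (nor P) φ₂ then 1 else 0 := by
    intro φ
    rw [grow' φ, horb]
  have hne : ψ ≠ ψ₂ := by
    intro h
    apply hne0
    rw [← h, hrow φ₂, if_neg]
    intro hmem2
    exact hns φ₂ hmem2 φ₂ (MulAction.mem_orbit_self _) (sameP_refl P φ₂)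
  have hreg : ∀ g : G, ¬ p ∣ orderOf g → (ψ₂ : G → ℂ) g = (ψ : G → ℂ) g := by
    intro g hg
    have e1 := Dθ.rel ψ hψY g hg
    have e2 := Dθ.rel ψ₂ hψ₂Y g hg
    have e3 := e2.trans e1.symm
    simpa using e3
  have hdeg2 : charDegree (ψ₂ : G → ℂ) = charDegree (ψ : G → ℂ) := by
    have h1reg : ¬ p ∣ orderOf (1 : G) := by
      rw [orderOf_one]
      exact hp.not_dvd_one
    have e := hreg 1 h1reg
    rw [Helper79.irr_one, Helper79.irr_one] at e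
    exact_mod_cast e
  obtain ⟨-, hsum'⟩ :=
    orbitSum_of_mem_Y P hP hmod θ hθ Dθ ψ₂ hψ₂Y φ₂ h1' h2' grow rfl (by omega)
  have hdφ : charDegree (φ₀ : cen P → ℂ) = charDegree (φ₂ : cen P → ℂ) := by
    rw [← charDegree_can P hP φ₀, ← charDegree_can P hP φ₂, h1, h1']
  have hfix := pSum_mulConj_eq_zero P hP ψ ψ₂ φ₀ φ₂ hsum hsum' hns
  have hz1 := z1Sum_mulConj_le P hP ψ ψ₂ φ₀ φ₂ hsum hsum' hdφ
  have hns' : ∀ φ ∈ MulAction.orbit (nor P) φ₂, ∀ φ' ∈ MulAction.orbit (nor P) φ₀,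
      ¬ SameP P φ φ' := fun φ hφ φ' hφ' h => hns φ' hφ' φ hφ (sameP_symm P h)
  have hfix' := pSum_mulConj_eq_zero P hP ψ₂ ψ φ₂ φ₀ hsum' hsum hns'
  have hz1' := z1Sum_mulConj_le P hP ψ₂ ψ φ₂ φ₀ hsum' hsum hdφ.symm
  -- `θ` is linear
  have hθ1 : charDegree (θ : cen P → ℂ) = 1 := by
    by_contra hθne
    have hθ2 : 2 ≤ charDegree (θ : cen P → ℂ) := by omega
    have : 2 * (cen P).relIndex (nor P) ≤ charDegree (ψ : G → ℂ) := by
      rw [hdeg]; nlinarith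
    exact principal_counting_lin P hP hmod ψ ψ₂ hlin hne hreg hfix hz1 hf2 (by omega)
  have hdegf : charDegree (ψ : G → ℂ) = (cen P).relIndex (nor P) := by
    rw [hdeg, hθ1, mul_one]
  obtain ⟨X, Y, ε, δ, D⟩ := exists_isRData P hP hmod (oneIrr P) (isCanon_oneIrr P)
  have hlin₂ : ∀ μ : IrrCharacter G, charDegree (μ : G → ℂ) = 1 →
      (∀ g : G, p ∣ orderOf g → (μ : G → ℂ) g = 1) →
      classInner (mulConj (ψ₂ : G → ℂ) (ψ₂ : G → ℂ)) (μ : G → ℂ) ≠ 0 → μ = oneIrrG G := by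
    intro μ hμ1 hμs hμc
    apply hlin μ hμ1 hμs
    rw [← classInner_mulConj_self_eq (p := p) ψ ψ₂ hreg (μ : G → ℂ) 1 hμs]
    exact hμc
  have hD := principal_counting_eq P hP hmod ψ ψ₂ hlin hne hreg hfix hz1 hf2 (by omega) hdegf D
  have hD' := principal_counting_eq P hP hmod ψ₂ ψ hlin₂ hne.symm
    (fun g hg => (hreg g hg).symm) hfix' hz1' hf2 (by omega) (hdeg2.trans hdegf) D
  exact ⟨θ, ψ₂, φ₀, φ₂, Xθ, Yθ, εθ, X, Y, ε, δ,
    ⟨hθ, Dθ, hψY, hψ₂Y, hne, h1, h2, h1', h2', hrow, grow, hsum, hsum', hns, hreg, hθ1, hdegf,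
      hdeg2.trans hdegf⟩, hD, hD'⟩

end Cfsg.Agent.Helper57.BP
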