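import Cfsg.Agent.Helper57.BP.Restrict
import Cfsg.Agent.Helper10.BPR1
import Cfsg.Agent.Helper10.BPR2
import Cfsg.Agent.Helper97.BPGEN

/-!
# S4504: the pieces of the reduction part (proved in the files of the piece takers)
-/

set_option autoImplicit false

namespace Cfsg.Agent.Helper57.BP

open Cfsg Cfsg.Agent.Helper16 Cfsg.Agent.Helper16.DefOne Cfsg.Agent.Helper82.DefOne
  Cfsg.Agent.Helper77.DefOne Cfsg.Agent.Helper57.BH
open scoped ComplexConjugate

universe u

/-- (R1) a character with an irreducible restriction is irreducible -/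
theorem irr_of_restrict_irr {G : Type u} [Group G] [Fintype G] (K : Subgroup G)
    (χ : G → ℂ) (hχ : IsCharacter G χ) (ψK : IrrCharacter K)
    (hres : ∀ k : K, (ψK : K → ℂ) k = χ k) : ∃ ψ : IrrCharacter G, (ψ : G → ℂ) = χ := by
  apply Cfsg.Agent.Helper10.BP.irr_of_restrict_irr <;> assumption

/-- (R2) if `ψ` restricts irreducibly to the subgroup `K` generated by the elements of order
`p`, then a linear constituent of `ψ ψ̄` that is trivial on the `p`-singular elements is trivial -/
theorem eq_one_of_restrict_irr {G : Type u} [Group G] [Fintype G] (p : ℕ)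
    (K : Subgroup G) (hK : K = Subgroup.normalClosure {g : G | orderOf g = p})
    (ψ : IrrCharacter G) (ψK : IrrCharacter K)
    (hres : ∀ k : K, (ψK : K → ℂ) k = (ψ : G → ℂ) k)
    (μ : IrrCharacter G) (hμ1 : charDegree (μ : G → ℂ) = 1)
    (hμ : ∀ g : G, p ∣ orderOf g → (μ : G → ℂ) g = 1)
    (hc : classInner (mulConj (ψ : G → ℂ) (ψ : G → ℂ)) (μ : G → ℂ) ≠ 0) : μ = oneIrrG G := by
  apply Cfsg.Agent.Helper10.BP.eq_one_of_restrict_irr <;> assumption

/-- (GEN) comparing orders: `G = K Z(G)` -/
theorem eq_top_of_card {G : Type u} [Group G] [Finite G] (p : ℕ)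
    (K : Subgroup G) (hK : K = Subgroup.normalClosure {g : G | orderOf g = p})
    (m : ℕ) (hm : 0 < m) (hG : Nat.card G = m * Nat.card (Subgroup.center G))
    (hKc : Nat.card K = m * Nat.card (Subgroup.center K))
    (H : Subgroup G) (hH : ∀ g : G, orderOf g = p → g ∈ H) (hZ : Subgroup.center G ≤ H) :
    H = ⊤ := by
  apply Cfsg.Agent.Helper97.BP.eq_top_of_card <;> assumption

end Cfsg.Agent.Helper57.BP
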