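import Cfsg.Agent.Helper57.BP.PartI
import Cfsg.Agent.Helper57.BP.PiecesII
import Cfsg.Agent.Helper3.BPEnd

/-!
# S4504: the final assembly
-/

set_option autoImplicit false

namespace Cfsg.Agent.Helper57.BP

open Cfsg Cfsg.Agent.Helper16 Cfsg.Agent.Helper16.DefOne Cfsg.Agent.Helper82.DefOne
  Cfsg.Agent.Helper77.DefOne Cfsg.Agent.Helper57.BH
open scoped ComplexConjugate

universe u

open Classical in
/-- **Brauer.** If `|P| = p`, `P` is not normal and `G` has a faithful character of degree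
`(p-1)/2`, then `G/Z(G) ≅ PSL(2,p)`. -/
theorem psl_of_faithful {G : Type u} [Group G] [Fintype G] {p : ℕ}
    [Fact p.Prime] (P : Sylow p G) (hP : Nat.card P = p) (hnn : ¬ (P : Subgroup G).Normal)
    (χ : G → ℂ) (hχ : IsCharacter G χ)
    (hfaith : ∀ g : G, χ g = χ 1 → g = 1) (hdeg : 2 * charDegree χ + 1 = p) :
    Nonempty (G ⧸ Subgroup.center G ≃*
      Matrix.ProjectiveSpecialLinearGroup (Fin 2) (ZMod p)) := by
  have hp : p.Prime := Fact.out
  set K : Subgroup G := Subgroup.normalClosure {g : G | orderOf g = p} with hK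
  have hSK : {g : G | orderOf g = p} ⊆ K := Subgroup.subset_normalClosure
  have hPK : (P : Subgroup G) ≤ K := by
    intro x hx
    by_cases hx1 : x = 1
    · rw [hx1]; exact K.one_mem
    · exact hSK (Helper70.DefOneXG.orderOf_eq_of_mem_sylow P hP hx hx1)
  obtain ⟨ψK, hres, x, hxP, hxc⟩ := exists_irr_restrict P hP hnn χ hχ hfaith hdeg K hK hPK
  obtain ⟨ψ, hψ⟩ := irr_of_restrict_irr K χ hχ ψK hres
  -- the group `G`
  have hresψ : ∀ k : K, (ψK : K → ℂ) k = (ψ : G → ℂ) k := by
    intro k; rw [hψ]; exact hres k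
  have hlinG : ∀ μ : IrrCharacter G, charDegree (μ : G → ℂ) = 1 →
      (∀ g : G, p ∣ orderOf g → (μ : G → ℂ) g = 1) →
      classInner (mulConj (ψ : G → ℂ) (ψ : G → ℂ)) (μ : G → ℂ) ≠ 0 → μ = oneIrrG G :=
    fun μ h1 h2 h3 => eq_one_of_restrict_irr p K hK ψ ψK hresψ μ h1 h2 h3
  have hfaithψ : ∀ g : G, (ψ : G → ℂ) g = (ψ : G → ℂ) 1 → g = 1 := by
    rw [hψ]; exact hfaith
  have hdegψ : 2 * charDegree (ψ : G → ℂ) + 1 = p := by
    rw [hψ]; exact hdeg
  obtain ⟨hsylG, hpfG, hcentG, hcardG, hf2G⟩ :=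
    card_sylow_eq P hP ψ hlinG hfaithψ hdegψ hnn
  -- the group `K`
  set PK : Sylow p K := P.subtype hPK with hPKdef
  have hPKcard : Nat.card PK = p := by
    exact (Nat.card_congr (Subgroup.subgroupOfEquivOfLe hPK).toEquiv).trans hP
  have hlinK : ∀ μ : IrrCharacter K, charDegree (μ : K → ℂ) = 1 →
      (∀ g : K, p ∣ orderOf g → (μ : K → ℂ) g = 1) →
      classInner (mulConj (ψK : K → ℂ) (ψK : K → ℂ)) (μ : K → ℂ) ≠ 0 → μ = oneIrrG K :=
    fun μ h1 h2 _ => eq_oneIrrG_of_normalClosure p K hK μ h1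
      (fun k hk => h2 k (by rw [hk]))
  have hfaithK : ∀ k : K, (ψK : K → ℂ) k = (ψK : K → ℂ) 1 → k = 1 := by
    intro k hk
    rw [hres k, hres 1] at hk
    apply Subtype.ext
    exact hfaith _ hk
  have hdegK : 2 * charDegree (ψK : K → ℂ) + 1 = p := by
    have : charDegree (ψK : K → ℂ) = charDegree χ := by
      unfold charDegree
      rw [hres 1]
      rfl
    rw [this]; exact hdeg
  have hnnK : ¬ (PK : Subgroup K).Normal := by
    intro hn
    apply hnn
    constructor
    intro y hy g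
    have hKn : K.Normal := by rw [hK]; exact Subgroup.normalClosure_normal
    have hyK : g * y * g⁻¹ ∈ K := hKn.conj_mem y (hPK hy) g
    have hpow : ((⟨g * y * g⁻¹, hyK⟩ : K)) ^ p ^ 1 = 1 := by
      apply Subtype.ext
      rw [pow_one]
      show (g * y * g⁻¹) ^ p = 1
      rw [conj_pow]
      have : y ^ p = 1 := by
        have h1 := orderOf_dvd_natCard (⟨y, hy⟩ : (P : Subgroup G))
        rw [hP, Subgroup.orderOf_mk] at h1
        exact orderOf_dvd_iff_pow_eq_one.mp h1
      rw [this]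
      group
    have hmem : (⟨g * y * g⁻¹, hyK⟩ : K) ∈ (PK : Subgroup K) := by
      apply Helper70.DefOneXG.mem_sylow_of_pow PK hpow
      rw [Subgroup.normalizer_eq_top]
      exact Subgroup.mem_top _
    rw [hPKdef, Sylow.coe_subtype, Subgroup.mem_subgroupOf] at hmem
    exact hmem
  obtain ⟨hsylK, hpfK, hcentK, hcardK, -⟩ :=
    card_sylow_eq PK hPKcard ψK hlinK hfaithK hdegK hnnK
  -- comparison
  set f := (cen P).relIndex (nor P) with hf
  have hff : (cen PK).relIndex (nor PK) = f := by omega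
  rw [hff] at hcardK
  have hgen : ∀ H : Subgroup G, (∀ g : G, orderOf g = p → g ∈ H) →
      Subgroup.center G ≤ H → H = ⊤ := by
    intro H hH hZ
    refine eq_top_of_card p K hK ((p + 1) * (f * p)) ?_ ?_ ?_ H hH hZ
    · have := hp.pos
      have hfpos : 0 < f := by omega
      positivity
    · rw [hcardG]; ring
    · rw [hcardK]; ring
  have hidx : (Subgroup.centralizer ((P : Subgroup G) : Set G)).relIndex
      (Subgroup.normalizer ((P : Subgroup G) : Set G)) = f := by
    rw [hf, nor_eq_normalizer P hP]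
  have hreg : ∀ g : G, g ∈ Subgroup.centralizer ((P : Subgroup G) : Set G) →
      ¬ p ∣ orderOf g → g ∈ Subgroup.center G := by
    intro g hg hgo
    exact hcentG ⟨g, hg⟩ (by rw [Subgroup.orderOf_mk]; exact hgo)
  exact Helper3.BP.nonempty_mulEquiv_psl P hP (by omega) f hpfG hsylG hidx hreg hgen

end Cfsg.Agent.Helper57.BP
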