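import Cfsg.Agent.Helper57.BP.Pieces
import Cfsg.Agent.Helper76.FaithfulCentral

/-!
# S4504: the number of Sylow `p`-subgroups is `p + 1` (assembly)
-/

set_option autoImplicit false

namespace Cfsg.Agent.Helper57.BP

open Cfsg Cfsg.Agent.Helper16 Cfsg.Agent.Helper16.DefOne Cfsg.Agent.Helper82.DefOne
  Cfsg.Agent.Helper77.DefOne Cfsg.Agent.Helper57.BH
open scoped ComplexConjugate

universe u

variable {G : Type u} [Group G] [Fintype G] {p : ℕ} [Fact p.Prime] (P : Sylow p G)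

theorem overChar_oneIrrG : overChar (oneIrrG G) = overOne G := by
  ext χ
  unfold overChar overOne
  simp only [Set.mem_setOf_eq]
  have h1 : ∀ g : G, ((oneIrrG G : IrrCharacter G) : G → ℂ) g = 1 := fun _ => rfl
  constructor
  · intro h ζ hζ
    have := h ζ hζ
    rw [h1, h1, mul_one, one_mul] at this
    exact this
  · intro h ζ hζ
    rw [h1, h1, mul_one, one_mul]
    exact h ζ hζ

/-- the quadratic inequality -/
theorem le_one_or_ge_of_ineq (f : ℕ) (hf : 1 ≤ f) (n : ℝ) (hn : 0 ≤ n)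
    (h : ((2 * f + 1 : ℕ) : ℝ) * n / (f : ℝ) ≤
      2 + 2 * (n ^ 2 - 1) / (((2 * f + 1 : ℕ) : ℝ) + 1) + n ^ 2 / (f : ℝ)) :
    n ≤ 1 ∨ (f : ℝ) ≤ n := by
  have hf0 : (0 : ℝ) < f := by exact_mod_cast hf
  have hf1 : (0 : ℝ) < (f : ℝ) + 1 := by linarith
  have e : (((2 * f + 1 : ℕ) : ℝ) + 1) = 2 * ((f : ℝ) + 1) := by push_cast; ring
  rw [e] at h
  have e2 : ((2 * f + 1 : ℕ) : ℝ) = 2 * (f : ℝ) + 1 := by push_cast; ring
  rw [e2] at h
  -- multiply by `f (f + 1)`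
  have h2 : (2 * (f : ℝ) + 1) * n * ((f : ℝ) + 1) ≤
      2 * (f : ℝ) * ((f : ℝ) + 1) + (n ^ 2 - 1) * f + n ^ 2 * ((f : ℝ) + 1) := by
    have h3 := mul_le_mul_of_nonneg_right h (mul_pos hf0 hf1).le
    have e3 : (2 * (f : ℝ) + 1) * n / (f : ℝ) * ((f : ℝ) * ((f : ℝ) + 1)) =
        (2 * (f : ℝ) + 1) * n * ((f : ℝ) + 1) := by field_simp
    have e4 : (2 + 2 * (n ^ 2 - 1) / (2 * ((f : ℝ) + 1)) + n ^ 2 / (f : ℝ)) *
        ((f : ℝ) * ((f : ℝ) + 1)) =
        2 * (f : ℝ) * ((f : ℝ) + 1) + (n ^ 2 - 1) * f + n ^ 2 * ((f : ℝ) + 1) := by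
      field_simp
    rw [e3, e4] at h3
    exact h3
  -- `(n - 1) (n - f) ≥ 0`
  have h4 : 0 ≤ (n - 1) * (n - f) := by nlinarith
  by_contra hcon
  push Not at hcon
  obtain ⟨hc1, hc2⟩ := hcon
  nlinarith

/-- the values of `ψ`, `ψ₂` on `P`, from the pieces -/
theorem exc_values (hP : Nat.card P = p)
    [((P : Subgroup G).subgroupOf (nor P)).Normal] (hmod : ModCount p P)
    {θ : IrrCharacter (cen P)} {ψ ψ₂ : IrrCharacter G}
    {φ₀ φ₂ : IrrCharacter (cen P)} {Xθ Yθ : Set (IrrCharacter G)} {εθ : IrrCharacter G → ℤ}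
    (hE : IsExcPair P θ ψ ψ₂ φ₀ φ₂ Xθ Yθ εθ)
    {X Y : Set (IrrCharacter G)} {ε : IrrCharacter G → ℤ} {δ : ℤ}
    (hD : IsPslData P ψ ψ₂ X Y ε δ) (hD' : IsPslData P ψ₂ ψ X Y ε δ)
    (x v : G)
    (hclass : ∀ F : G → ℂ, IsClassFunction G F →
        pSum P F = F 1 + ((cen P).relIndex (nor P) : ℂ) * F x +
          ((cen P).relIndex (nor P) : ℂ) * F v) :
    (ψ : G → ℂ) x + (ψ₂ : G → ℂ) x = -1 ∧
      (ψ : G → ℂ) v = (ψ₂ : G → ℂ) x ∧ (ψ₂ : G → ℂ) v = (ψ : G → ℂ) x ∧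
      ‖(ψ : G → ℂ) x‖ ^ 2 + ‖(ψ₂ : G → ℂ) x‖ ^ 2 = ((cen P).relIndex (nor P) : ℝ) + 1 ∧
      ‖(ψ : G → ℂ) x - (ψ₂ : G → ℂ) x‖ ^ 2 = (p : ℝ) := by
  have hpf := hD.hpf
  have h0 := (pSum_of_mem_Yθ P hP hmod hE hpf ψ hE.hψ).1
  have h0' := (pSum_of_mem_Yθ P hP hmod hE hpf ψ₂ hE.hψ₂).1
  have h12 := pSum_mulConj_eq_zero P hP ψ ψ₂ φ₀ φ₂ hE.hsum hE.hsum₂ hE.hns
  have h11 := pSum_normSq P hP hmod hE hD
  have h22 := pSum_normSq P hP hmod (IsExcPair.symm P hE) hD'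
  exact exc_values_on_P P ψ ψ₂ hpf hE.hdeg hE.hdeg₂ h0 h0' h12 h11 h22 x v hclass

/-- **(A1)** `|ψ(z)| ≤ 1` for the `p`-regular non-central elements -/
theorem norm_le_one_of_regular (hP : Nat.card P = p)
    [((P : Subgroup G).subgroupOf (nor P)).Normal] (hmod : ModCount p P)
    {θ : IrrCharacter (cen P)} {ψ ψ₂ : IrrCharacter G}
    {φ₀ φ₂ : IrrCharacter (cen P)} {Xθ Yθ : Set (IrrCharacter G)} {εθ : IrrCharacter G → ℤ}
    (hE : IsExcPair P θ ψ ψ₂ φ₀ φ₂ Xθ Yθ εθ)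
    {X Y : Set (IrrCharacter G)} {ε : IrrCharacter G → ℤ} {δ : ℤ}
    (hD : IsPslData P ψ ψ₂ X Y ε δ) (hD' : IsPslData P ψ₂ ψ X Y ε δ)
    (hinv : ∀ n : nor P, n • θ = θ) (hY : Yθ = {ψ, ψ₂})
    (hfaith : ∀ g : G, (ψ : G → ℂ) g = (ψ : G → ℂ) 1 → g = 1)
    (hcent : ∀ c : cen P, ¬ p ∣ orderOf c → (c : G) ∈ Subgroup.center G)
    (hZreg : ∀ ζ : G, ζ ∈ Subgroup.center G → ¬ p ∣ orderOf ζ)
    (hψθ : ∀ c : cen P, ¬ p ∣ orderOf c →
      (ψ : G → ℂ) (c : G) = (ψ : G → ℂ) 1 * (θ : cen P → ℂ) c)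
    (z : G) (hz : ¬ p ∣ orderOf z) (hzc : z ∉ Subgroup.center G) :
    ‖(ψ : G → ℂ) z‖ ≤ 1 := by
  have hp : p.Prime := Fact.out
  set f := (cen P).relIndex (nor P) with hf
  have hpf := hD.hpf
  have hfpos : 0 < f := relIndex_pos P
  -- an element of order `p`
  obtain ⟨x, hx, hx1⟩ : ∃ x : G, x ∈ (P : Subgroup G) ∧ x ≠ 1 := by
    by_contra hcon
    push Not at hcon
    have : Nat.card P = 1 := by
      rw [Nat.card_eq_one_iff_unique]
      refine ⟨⟨fun a b => ?_⟩, ⟨1⟩⟩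
      apply Subtype.ext
      rw [hcon a a.2, hcon b b.2]
    rw [hP] at this
    exact hp.one_lt.ne' this
  obtain ⟨v, hv, hv1, hclass⟩ := exists_other_class P hP hpf x hx hx1
  obtain ⟨hsum1, hψv, hψ₂v, hsq, hdiff⟩ :=
    exc_values P hP hmod hE hD hD' x v hclass
  -- the two inequalities
  have i1 := norm_tsum_overChar_le ψ x x z
  have i2 := norm_tsum_overChar_le ψ x v z
  rw [tsum_overChar_eq_Rset P hP hmod hcent hZreg θ hE.hθ hE.hdegθ ψ hψθ x x hx hx1 z] at i1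
  rw [tsum_overChar_eq_Rset P hP hmod hcent hZreg θ hE.hθ hE.hdegθ ψ hψθ x v hx hx1 z] at i2
  have hone : ∀ c : cen P, ¬ p ∣ orderOf c →
      ((oneIrrG G : IrrCharacter G) : G → ℂ) (c : G) =
        ((oneIrrG G : IrrCharacter G) : G → ℂ) 1 * ((oneIrr P : IrrCharacter (cen P)) : cen P → ℂ) c := by
    intro c _
    show (1 : ℂ) = 1 * 1
    ring
  have e1 := tsum_overChar_eq_Rset P hP hmod hcent hZreg (oneIrr P) (isCanon_oneIrr P)
    (charDegree_oneIrr P) (oneIrrG G) hone x x hx hx1 z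
  have e2 := tsum_overChar_eq_Rset P hP hmod hcent hZreg (oneIrr P) (isCanon_oneIrr P)
    (charDegree_oneIrr P) (oneIrrG G) hone x v hx hx1 z
  rw [overChar_oneIrrG] at e1 e2
  rw [e1] at i1
  rw [e2] at i2
  have hsub := tsum_Rset_theta_sub P hP hmod hE hinv hY x v hx hx1 hv hv1 z hz
  have hadd := tsum_Rset_one_add P hP hmod hE.hreg hD x v hx hx1 hv hv1 hclass z hz
  rw [hψv, hψ₂v] at hsub
  -- the left side
  set A := (ψ : G → ℂ) x with hA
  set B := (ψ₂ : G → ℂ) x with hB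
  set n := ‖(ψ : G → ℂ) z‖ with hn
  have hAB : A * A + B * B - A * B - B * A = (A - B) ^ 2 := by ring
  rw [hAB] at hsub
  have hnorm : ‖(A - B) ^ 2 * conj ((ψ : G → ℂ) z) / (f : ℂ)‖ = (p : ℝ) * n / (f : ℝ) := by
    rw [norm_div, norm_mul, norm_pow, hdiff, Complex.norm_conj, Complex.norm_natCast]
  have hle : (p : ℝ) * n / (f : ℝ) ≤
      (tsum (Rset P (oneIrr P)) x x z).re + (tsum (Rset P (oneIrr P)) x v z).re := by
    rw [← hnorm, ← hsub]
    calc ‖tsum (Rset P θ) x x z - tsum (Rset P θ) x v z‖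
        ≤ ‖tsum (Rset P θ) x x z‖ + ‖tsum (Rset P θ) x v z‖ := norm_sub_le _ _
      _ ≤ _ := add_le_add i1 i2
  rw [← Complex.add_re, hadd] at hle
  have hs : (ψ : G → ℂ) z * conj ((ψ : G → ℂ) z) = ((n ^ 2 : ℝ) : ℂ) := by
    rw [Complex.mul_conj, Complex.normSq_eq_norm_sq]
  rw [hs] at hle
  have hre : (2 + 2 * (((n ^ 2 : ℝ) : ℂ) - 1) / ((p : ℂ) + 1) +
      ((n ^ 2 : ℝ) : ℂ) / (f : ℂ)).re = 2 + 2 * (n ^ 2 - 1) / ((p : ℝ) + 1) + n ^ 2 / (f : ℝ) := by
    have : (2 + 2 * (((n ^ 2 : ℝ) : ℂ) - 1) / ((p : ℂ) + 1) + ((n ^ 2 : ℝ) : ℂ) / (f : ℂ)) =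
        ((2 + 2 * (n ^ 2 - 1) / ((p : ℝ) + 1) + n ^ 2 / (f : ℝ) : ℝ) : ℂ) := by
      push_cast
      ring
    rw [this, Complex.ofReal_re]
  rw [hre] at hle
  have hn0 : 0 ≤ n := norm_nonneg _
  have hpc : (p : ℝ) = ((2 * f + 1 : ℕ) : ℝ) := by rw [hpf]
  rw [hpc] at hle
  rcases le_one_or_ge_of_ineq f hfpos n hn0 hle with h | h
  · exact h
  · -- `z` is in the centre of `ψ`
    exfalso
    apply hzc
    apply mem_center_of_mem_charCenter ψ hfaith
    rw [Helper74.mem_charCenter_iff, hE.hdeg]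
    have hψchar : IsCharacter G (ψ : G → ℂ) := Helper74.irr_isCharacter ψ
    have := Helper74.norm_le_charDegree hψchar z
    rw [hE.hdeg] at this
    exact le_antisymm this h

/-- the final arithmetic -/
theorem card_le_of_moments (f N z : ℝ) (hf : 2 ≤ f) (hz : 0 < z) (hN : 0 ≤ N)
    (Ra Rb : ℝ)
    (ha : N * f * (2 * f + 1) * z = z * N * (f * (f + 1)) + z * f ^ 2 + Ra)
    (hb : (f + 1) * (N * f * (2 * f + 1) * z) =
      z * N * ((f + 1) * (f * (f + 1))) + 2 * z * f ^ 4 + Rb)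
    (hR : Rb ≤ 2 * Ra) : N ≤ 2 * f + 2 := by
  have h1 : (f + 1) * (N * f * (2 * f + 1) * z) ≤
      z * N * ((f + 1) * (f * (f + 1))) + 2 * z * f ^ 4 +
        2 * (N * f * (2 * f + 1) * z - z * N * (f * (f + 1)) - z * f ^ 2) := by
    linarith
  have h2 : z * f * (f - 1) * N ≤ z * f * (f - 1) * (2 * f + 2) := by
    nlinarith
  have hpos : 0 < z * f * (f - 1) := by
    have : 0 < f := by linarith
    have : 0 < f - 1 := by linarith
    positivity
  exact le_of_mul_le_mul_left h2 hpos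

/-- translation by a central element does not change the absolute value of an irreducible
character -/
theorem norm_apply_mul_center (χ : IrrCharacter G) (g ζ : G) (hζ : ζ ∈ Subgroup.center G) :
    ‖(χ : G → ℂ) (g * ζ)‖ = ‖(χ : G → ℂ) g‖ := by
  have hχ : IsIrrCharacter G (χ : G → ℂ) := χ.2
  have h1 : g * ζ = ζ * g := (Subgroup.mem_center_iff.mp hζ g)
  rw [h1, Helper76.centralLam_spec hχ hζ g, norm_mul]
  have h2 : ‖Helper76.centralLam (χ : G → ℂ) ζ‖ = 1 :=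
    Helper76.norm_monoidHom_eq_one
      (Helper76.centralLamHom hχ (Subgroup.center G) le_rfl) ⟨ζ, hζ⟩
  rw [h2, one_mul]

open Classical in
/-- the partition of `G` into `p`-singular, central and the other elements -/
theorem sum_eq_three (hZreg : ∀ ζ : G, ζ ∈ Subgroup.center G → ¬ p ∣ orderOf ζ) (F : G → ℝ) :
    ∑ g : G, F g = ∑ g ∈ Finset.univ.filter (fun g : G => p ∣ orderOf g), F g +
      ∑ g ∈ Finset.univ.filter (fun g : G => g ∈ Subgroup.center G), F g +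
      ∑ g ∈ Finset.univ.filter (fun g : G => ¬ p ∣ orderOf g ∧ g ∉ Subgroup.center G), F g := by
  rw [← Finset.sum_filter_add_sum_filter_not Finset.univ (fun g : G => p ∣ orderOf g) F, add_assoc]
  congr 1
  rw [← Finset.sum_filter_add_sum_filter_not
    (Finset.univ.filter (fun g : G => ¬ p ∣ orderOf g)) (fun g : G => g ∈ Subgroup.center G) F,
    Finset.filter_filter, Finset.filter_filter]
  congr 1
  apply Finset.sum_congr _ (fun _ _ => rfl)
  ext g
  simp only [Finset.mem_filter, Finset.mem_univ, true_and]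
  exact ⟨fun h => h.2, fun h => ⟨hZreg g h, h⟩⟩

open Classical in
/-- the sum of a function over `P` as a finset sum -/
theorem pSum_eq_sum (F : G → ℂ) :
    pSum P F = F 1 + ∑ u ∈ Finset.univ.filter (fun u : G => u ∈ (P : Subgroup G) ∧ u ≠ 1), F u := by
  unfold pSum
  rw [finsum_mem_eq_finite_toFinset_sum _ (Set.toFinite _)]
  have h1 : (Set.toFinite ((P : Subgroup G) : Set G)).toFinset =
      insert (1 : G) (Finset.univ.filter (fun u : G => u ∈ (P : Subgroup G) ∧ u ≠ 1)) := by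
    ext g
    simp only [Set.Finite.mem_toFinset, SetLike.mem_coe, Finset.mem_insert, Finset.mem_filter,
      Finset.mem_univ, true_and]
    constructor
    · intro h
      by_cases hg : g = 1
      · exact Or.inl hg
      · exact Or.inr ⟨h, hg⟩
    · rintro (h | h)
      · rw [h]; exact Subgroup.one_mem _
      · exact h.1
  rw [h1, Finset.sum_insert]
  simp

open Classical in
/-- **(A2)** the number of Sylow `p`-subgroups is at most `p + 1` -/
theorem card_sylow_le (hP : Nat.card P = p)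
    [((P : Subgroup G).subgroupOf (nor P)).Normal] (hmod : ModCount p P)
    {θ : IrrCharacter (cen P)} {ψ ψ₂ : IrrCharacter G}
    {φ₀ φ₂ : IrrCharacter (cen P)} {Xθ Yθ : Set (IrrCharacter G)} {εθ : IrrCharacter G → ℤ}
    (hE : IsExcPair P θ ψ ψ₂ φ₀ φ₂ Xθ Yθ εθ)
    {X Y : Set (IrrCharacter G)} {ε : IrrCharacter G → ℤ} {δ : ℤ}
    (hD : IsPslData P ψ ψ₂ X Y ε δ) (hD' : IsPslData P ψ₂ ψ X Y ε δ)
    (hcent : ∀ c : cen P, ¬ p ∣ orderOf c → (c : G) ∈ Subgroup.center G)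
    (hZreg : ∀ ζ : G, ζ ∈ Subgroup.center G → ¬ p ∣ orderOf ζ)
    (hsmall : ∀ z : G, ¬ p ∣ orderOf z → z ∉ Subgroup.center G → ‖(ψ : G → ℂ) z‖ ≤ 1)
    (hf2 : 2 ≤ (cen P).relIndex (nor P)) :
    Nat.card (Sylow p G) ≤ p + 1 := by
  have hp : p.Prime := Fact.out
  set f := (cen P).relIndex (nor P) with hf
  have hpf := hD.hpf
  set a : G → ℝ := fun g => ‖(ψ : G → ℂ) g‖ ^ 2 with ha
  set b : G → ℝ := fun g => ‖(ψ : G → ℂ) g‖ ^ 4 +
    ‖(ψ : G → ℂ) g‖ ^ 2 * ‖(ψ₂ : G → ℂ) g‖ ^ 2 with hb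
  have hV1 : ∑ g : G, a g = (Nat.card G : ℝ) := sum_normSq_irr ψ
  have hV2 : ∑ g : G, b g = ((f : ℝ) + 1) * (Nat.card G : ℝ) := sum_norm_four P hP hD
  have hclassψ : ∀ (χ : IrrCharacter G) (g h : G), (χ : G → ℂ) (g * h * g⁻¹) = (χ : G → ℂ) h := by
    intro χ g h
    exact Helper79.irr_isClassFunction χ h g
  have haC : ∀ g h : G, a (g * h * g⁻¹) = a h := by
    intro g h
    simp only [ha, hclassψ]
  have hbC : ∀ g h : G, b (g * h * g⁻¹) = b h := by
    intro g h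
    simp only [hb, hclassψ]
  have haZ : ∀ g ζ : G, ζ ∈ Subgroup.center G → a (g * ζ) = a g := by
    intro g ζ hζ
    simp only [ha, norm_apply_mul_center ψ g ζ hζ]
  have hbZ : ∀ g ζ : G, ζ ∈ Subgroup.center G → b (g * ζ) = b g := by
    intro g ζ hζ
    simp only [hb, norm_apply_mul_center ψ g ζ hζ, norm_apply_mul_center ψ₂ g ζ hζ]
  have hSa := sum_singular_eq P hP hcent hZreg a haC haZ
  have hSb := sum_singular_eq P hP hcent hZreg b hbC hbZ
  -- the sums over `P \ 1`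
  have hT := pSum_normSq P hP hmod hE hD
  have hdegψ : (ψ : G → ℂ) 1 = (f : ℂ) := by rw [Helper79.irr_one, hE.hdeg]
  have hPa : ∑ u ∈ Finset.univ.filter (fun u : G => u ∈ (P : Subgroup G) ∧ u ≠ 1), a u =
      (f : ℝ) * ((f : ℝ) + 1) := by
    rw [pSum_eq_sum] at hT
    have h1 : mulConj (ψ : G → ℂ) (ψ : G → ℂ) 1 = ((f : ℝ) ^ 2 : ℝ) := by
      unfold mulConj
      rw [hdegψ]
      simp [sq]
    have h2 : ∑ u ∈ Finset.univ.filter (fun u : G => u ∈ (P : Subgroup G) ∧ u ≠ 1),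
        mulConj (ψ : G → ℂ) (ψ : G → ℂ) u =
        ((∑ u ∈ Finset.univ.filter (fun u : G => u ∈ (P : Subgroup G) ∧ u ≠ 1), a u : ℝ) : ℂ) := by
      push_cast
      refine Finset.sum_congr rfl (fun u _ => ?_)
      unfold mulConj
      rw [Complex.mul_conj, Complex.normSq_eq_norm_sq]
    rw [h1, h2] at hT
    have h3 : (((f : ℝ) ^ 2 +
        ∑ u ∈ Finset.univ.filter (fun u : G => u ∈ (P : Subgroup G) ∧ u ≠ 1), a u : ℝ) : ℂ) =
        (((p : ℝ) * (f : ℝ) : ℝ) : ℂ) := by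
      push_cast
      push_cast at hT
      exact hT
    have h4 := Complex.ofReal_injective h3
    have hpr : (p : ℝ) = 2 * (f : ℝ) + 1 := by
      rw [← hpf]; push_cast; ring
    rw [hpr] at h4
    nlinarith
  have hsumsq : ∀ u : G, u ∈ (P : Subgroup G) → u ≠ 1 →
      ‖(ψ : G → ℂ) u‖ ^ 2 + ‖(ψ₂ : G → ℂ) u‖ ^ 2 = (f : ℝ) + 1 := by
    intro u hu hu1
    obtain ⟨v, hv, hv1, hclass⟩ := exists_other_class P hP hpf u hu hu1
    exact (exc_values P hP hmod hE hD hD' u v hclass).2.2.2.1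
  have hPb : ∑ u ∈ Finset.univ.filter (fun u : G => u ∈ (P : Subgroup G) ∧ u ≠ 1), b u =
      ((f : ℝ) + 1) * ((f : ℝ) * ((f : ℝ) + 1)) := by
    rw [← hPa, Finset.mul_sum]
    refine Finset.sum_congr rfl (fun u hu => ?_)
    rw [Finset.mem_filter] at hu
    have := hsumsq u hu.2.1 hu.2.2
    simp only [hb, ha]
    rw [← this]
    ring
  -- the sums over the centre
  have hcardZ : (Finset.univ.filter (fun g : G => g ∈ Subgroup.center G)).card =
      Nat.card (Subgroup.center G) := by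
    rw [Nat.card_eq_fintype_card, Fintype.card_subtype]
  have hnormZ : ∀ g : G, g ∈ Subgroup.center G → ‖(ψ : G → ℂ) g‖ = (f : ℝ) := by
    intro g hg
    have := (Helper74.mem_charCenter_iff ψ g).mp (Helper74.center_le_charCenter ψ hg)
    rw [this, hE.hdeg]
  have hnormZ₂ : ∀ g : G, g ∈ Subgroup.center G → ‖(ψ₂ : G → ℂ) g‖ = (f : ℝ) := by
    intro g hg
    rw [hE.hreg g (hZreg g hg)]
    exact hnormZ g hg
  have hZa : ∑ g ∈ Finset.univ.filter (fun g : G => g ∈ Subgroup.center G), a g =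
      (Nat.card (Subgroup.center G) : ℝ) * (f : ℝ) ^ 2 := by
    rw [← hcardZ, ← nsmul_eq_mul, ← Finset.sum_const]
    refine Finset.sum_congr rfl (fun g hg => ?_)
    rw [Finset.mem_filter] at hg
    simp only [ha, hnormZ g hg.2]
  have hZb : ∑ g ∈ Finset.univ.filter (fun g : G => g ∈ Subgroup.center G), b g =
      (Nat.card (Subgroup.center G) : ℝ) * (2 * (f : ℝ) ^ 4) := by
    rw [← hcardZ, ← nsmul_eq_mul, ← Finset.sum_const]
    refine Finset.sum_congr rfl (fun g hg => ?_)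
    rw [Finset.mem_filter] at hg
    simp only [hb, hnormZ g hg.2, hnormZ₂ g hg.2]
    ring
  -- the other elements
  have hR : ∑ g ∈ Finset.univ.filter
        (fun g : G => ¬ p ∣ orderOf g ∧ g ∉ Subgroup.center G), b g ≤
      2 * ∑ g ∈ Finset.univ.filter
        (fun g : G => ¬ p ∣ orderOf g ∧ g ∉ Subgroup.center G), a g := by
    rw [Finset.mul_sum]
    apply Finset.sum_le_sum
    intro g hg
    rw [Finset.mem_filter] at hg
    have h1 := hsmall g hg.2.1 hg.2.2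
    have h2 : ‖(ψ₂ : G → ℂ) g‖ = ‖(ψ : G → ℂ) g‖ := by rw [hE.hreg g hg.2.1]
    simp only [hb, ha, h2]
    have h0 : 0 ≤ ‖(ψ : G → ℂ) g‖ := norm_nonneg _
    have h3 : ‖(ψ : G → ℂ) g‖ ^ 2 ≤ 1 := by nlinarith
    have h4 : 0 ≤ ‖(ψ : G → ℂ) g‖ ^ 2 := by positivity
    nlinarith
  -- assembly
  have hA := sum_eq_three hZreg a
  have hB := sum_eq_three hZreg b
  rw [hV1, hSa, hPa, hZa] at hA
  rw [hV2, hSb, hPb, hZb] at hB
  have hcardG := card_eq_of_cent P hP hcent hZreg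
  have hcardG' : (Nat.card G : ℝ) = (Nat.card (Sylow p G) : ℝ) * (f : ℝ) * (2 * (f : ℝ) + 1) *
      (Nat.card (Subgroup.center G) : ℝ) := by
    have hpr : (p : ℝ) = 2 * (f : ℝ) + 1 := by
      rw [← hpf]; push_cast; ring
    rw [hcardG]
    push_cast
    rw [hpr]
    ring
  rw [hcardG'] at hA hB
  have hzpos : (0 : ℝ) < (Nat.card (Subgroup.center G) : ℝ) := by
    exact_mod_cast Nat.card_pos
  have hfr : (2 : ℝ) ≤ (f : ℝ) := by exact_mod_cast hf2
  have hfinal := card_le_of_moments (f : ℝ) (Nat.card (Sylow p G) : ℝ)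
    (Nat.card (Subgroup.center G) : ℝ) hfr hzpos (by positivity) _ _
    (by linarith [hA]) (by linarith [hB]) hR
  have : (Nat.card (Sylow p G) : ℝ) ≤ ((p + 1 : ℕ) : ℝ) := by
    have hpr : (p : ℝ) = 2 * (f : ℝ) + 1 := by
      rw [← hpf]; push_cast; ring
    push_cast
    rw [hpr]
    linarith
  exact_mod_cast this

/-- the centre of `G` is a `p'`-group when the Sylow `p`-subgroup of order `p` is not normal -/
theorem center_regular (hP : Nat.card P = p) (hnn : ¬ (P : Subgroup G).Normal)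
    (ζ : G) (hζ : ζ ∈ Subgroup.center G) : ¬ p ∣ orderOf ζ := by
  intro hdvd
  have hp : p.Prime := Fact.out
  apply hnn
  -- a central element of order `p`
  set u := ζ ^ (orderOf ζ / p) with hu
  have hou : orderOf u = p := orderOf_pow_orderOf_div (orderOf_pos ζ).ne' hdvd
  have huc : u ∈ Subgroup.center G := Subgroup.pow_mem _ hζ _
  have hu1 : u ≠ 1 := by
    intro h
    rw [h, orderOf_one] at hou
    exact hp.one_lt.ne hou
  have hup : u ^ p ^ 1 = 1 := by rw [pow_one, ← hou, pow_orderOf_eq_one]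
  have hun : u ∈ Subgroup.normalizer ((P : Subgroup G) : Set G) := by
    rw [Subgroup.mem_normalizer_iff]
    intro h
    have e : u * h * u⁻¹ = h := by
      rw [← Subgroup.mem_center_iff.mp huc h]; group
    rw [e]
  have huP : u ∈ (P : Subgroup G) := Helper70.DefOneXG.mem_sylow_of_pow P hup hun
  have hz := Helper70.DefOneXG.zpowers_eq_sylow P hP huP hu1
  constructor
  intro y hy g
  rw [← hz] at hy
  obtain ⟨k, rfl⟩ := Subgroup.mem_zpowers_iff.mp hy
  have hc : u ^ k ∈ Subgroup.center G := Subgroup.zpow_mem _ huc k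
  have e : g * u ^ k * g⁻¹ = u ^ k := by
    rw [Subgroup.mem_center_iff.mp hc g]; group
  rw [e, ← hz]
  exact Subgroup.zpow_mem _ (Subgroup.mem_zpowers u) k

/-- **Part I.** If `G` is generated by its elements of order `p`, `|P| = p`, `P` is not normal
and `ψ` is a faithful irreducible character of degree `(p-1)/2`, then `G` has exactly `p + 1` Sylow
`p`-subgroups. -/
theorem card_sylow_eq (hP : Nat.card P = p)
    (ψ : IrrCharacter G)
    (hlin : ∀ μ : IrrCharacter G, charDegree (μ : G → ℂ) = 1 →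
      (∀ g : G, p ∣ orderOf g → (μ : G → ℂ) g = 1) →
      classInner (mulConj (ψ : G → ℂ) (ψ : G → ℂ)) (μ : G → ℂ) ≠ 0 → μ = oneIrrG G)
    (hfaith : ∀ g : G, (ψ : G → ℂ) g = (ψ : G → ℂ) 1 → g = 1)
    (hdegp : 2 * charDegree (ψ : G → ℂ) + 1 = p)
    (hnn : ¬ (P : Subgroup G).Normal) :
    Nat.card (Sylow p G) = p + 1 ∧ 2 * (cen P).relIndex (nor P) + 1 = p ∧
      (∀ c : cen P, ¬ p ∣ orderOf c → (c : G) ∈ Subgroup.center G) ∧
      Nat.card G = (p + 1) * ((cen P).relIndex (nor P) *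
        (p * Nat.card (Subgroup.center G))) ∧ 2 ≤ (cen P).relIndex (nor P) := by
  have hp : p.Prime := Fact.out
  haveI := normal_subgroupOf_nor P hP
  obtain ⟨M, hM⟩ := Helper74.exists_isPModular p hp
  have hmod : ModCount p P :=
    Helper24.DefOneMZ2.module_count M hM P hP (nor_eq_normalizer P hP)
  -- `P` is not in the centre of `ψ`
  have hnc : ∃ x : G, x ∈ (P : Subgroup G) ∧ x ∉ Helper74.charCenter ψ := by
    by_contra hcon
    push Not at hcon
    apply hnn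
    constructor
    intro y hy g
    have hc := mem_center_of_mem_charCenter ψ hfaith y (hcon y hy)
    have e : g * y * g⁻¹ = y := by
      rw [Subgroup.mem_center_iff.mp hc g]; group
    rw [e]
    exact hy
  obtain ⟨θ, ψ₂, φ₀, φ₂, Xθ, Yθ, εθ, X, Y, ε, δ, hE, hD, hD'⟩ :=
    exists_excPair P hP hmod ψ hlin hdegp hnc
  have hpf := hD.hpf
  have hp1 : ∃ x : G, x ∈ (P : Subgroup G) ∧ x ≠ 1 := by
    by_contra hcon
    push Not at hcon
    have : Nat.card P = 1 := by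
      rw [Nat.card_eq_one_iff_unique]
      refine ⟨⟨fun a b => ?_⟩, ⟨1⟩⟩
      apply Subtype.ext
      rw [hcon a a.2, hcon b b.2]
    rw [hP] at this
    exact hp.one_lt.ne' this
  obtain ⟨x₀, hx₀, hx₀1⟩ := hp1
  obtain ⟨v₀, hv₀, hv₀1, hclass₀⟩ := exists_other_class P hP hpf x₀ hx₀ hx₀1
  obtain ⟨hs1, hsv, hsv₂, -, -⟩ := exc_values P hP hmod hE hD hD' x₀ v₀ hclass₀
  have hY := Yθ_eq_pair P hE.hψ hE.hψ₂ hpf
    (fun ψ' h1 h2 => pSum_mulConj_third P hP hmod hE hD ψ' h1 h2)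
    (fun ψ' h1 h2 => pSum_mulConj_third P hP hmod (IsExcPair.symm P hE) hD' ψ' h1 h2)
    (fun ψ' h1 => pSum_of_mem_Yθ P hP hmod hE hpf ψ' h1) x₀ v₀ hclass₀ hs1 hsv hsv₂
  have hinv := smul_theta_eq P hP hE hpf hY
  have hcent : ∀ c : cen P, ¬ p ∣ orderOf c → (c : G) ∈ Subgroup.center G :=
    fun c hc => (regular_mem_center P hP hE hinv hfaith c hc).1
  have hψθ : ∀ c : cen P, ¬ p ∣ orderOf c →
      (ψ : G → ℂ) (c : G) = (ψ : G → ℂ) 1 * (θ : cen P → ℂ) c := by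
    intro c hc
    rw [(regular_mem_center P hP hE hinv hfaith c hc).2, Helper79.irr_one, hE.hdeg]
  have hZreg := center_regular P hP hnn
  have hsmall := norm_le_one_of_regular P hP hmod hE hD hD' hinv hY hfaith hcent hZreg hψθ
  have hf2 : 2 ≤ (cen P).relIndex (nor P) := by
    have hdeg := hE.hdeg
    have h5 : 5 ≤ p ∨ p < 5 := le_or_gt 5 p
    have hfpos : 0 < (cen P).relIndex (nor P) := relIndex_pos P
    by_contra hcon
    have hf1 : (cen P).relIndex (nor P) = 1 := by omega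
    -- then `ψ` is linear, `G` is abelian
    apply hnn
    constructor
    intro y hy g
    have hlin : charDegree (ψ : G → ℂ) = 1 := by rw [hdeg, hf1]
    have hyc : y ∈ Helper74.charCenter ψ := by
      rw [Helper74.mem_charCenter_iff, hlin]
      have h1 : (ψ : G → ℂ) 1 = 1 := by rw [Helper79.irr_one, hlin]; simp
      have hmul := Helper79.isCharacter_linear_mul (Helper74.irr_isCharacter ψ) h1
      have hpow : ∀ k : ℕ, (ψ : G → ℂ) (y ^ k) = (ψ : G → ℂ) y ^ k := by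
        intro k
        induction k with
        | zero => rw [pow_zero, pow_zero, h1]
        | succ k ih => rw [pow_succ, pow_succ, hmul, ih]
      have h2 : (ψ : G → ℂ) y ^ orderOf y = 1 := by
        rw [← hpow, pow_orderOf_eq_one, h1]
      have := Complex.norm_eq_one_of_pow_eq_one h2 (orderOf_pos y).ne'
      rw [this]; simp
    have hc := mem_center_of_mem_charCenter ψ hfaith y hyc
    have e : g * y * g⁻¹ = y := by
      rw [Subgroup.mem_center_iff.mp hc g]; group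
    rw [e]
    exact hy
  have hle := card_sylow_le P hP hmod hE hD hD' hcent hZreg hsmall hf2
  have hmodeq : Nat.card (Sylow p G) ≡ 1 [MOD p] := card_sylow_modEq_one p G
  have hne1 : Nat.card (Sylow p G) ≠ 1 := by
    intro h1
    haveI : Subsingleton (Sylow p G) := (Nat.card_eq_one_iff_unique.mp h1).1
    exact hnn (Sylow.normal_of_subsingleton P)
  have hpos : 0 < Nat.card (Sylow p G) := Nat.card_pos
  have hge : p + 1 ≤ Nat.card (Sylow p G) := by
    have hdvd : p ∣ Nat.card (Sylow p G) - 1 := (Nat.modEq_iff_dvd' hpos).mp hmodeq.symm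
    have hpos' : 0 < Nat.card (Sylow p G) - 1 := by omega
    have := Nat.le_of_dvd hpos' hdvd
    omega
  have hcard := card_eq_of_cent P hP hcent hZreg
  rw [le_antisymm hle hge] at hcard
  exact ⟨le_antisymm hle hge, hpf, hcent, hcard, hf2⟩

end Cfsg.Agent.Helper57.BP
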