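import Cfsg.Agent.Helper57.BP.Lemmas
import Cfsg.Agent.Helper3.BPU4
import Cfsg.Agent.Helper33.BPT1p
import Cfsg.Agent.Helper33.BPT1pp
import Cfsg.Agent.Helper41.BPV1
import Cfsg.Agent.Helper41.BPV2
import Cfsg.Agent.Helper48.BPT2
import Cfsg.Agent.Helper48.BPW2
import Cfsg.Agent.Helper75.BPU1
import Cfsg.Agent.Helper75.BPV3
import Cfsg.Agent.Helper80.BPT3
import Cfsg.Agent.Helper80.BPV4
import Cfsg.Agent.Helper80.BPW1
import Cfsg.Agent.Helper82.BPT1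
import Cfsg.Agent.Helper82.BPT4
import Cfsg.Agent.Helper82.BPU2
import Cfsg.Agent.Helper82.BPU3

/-!
# S4504: the pieces of the first part, collected under one namespace (proved in the files of the piece takers)
-/

set_option autoImplicit false

namespace Cfsg.Agent.Helper57.BP

open Cfsg Cfsg.Agent.Helper16 Cfsg.Agent.Helper16.DefOne Cfsg.Agent.Helper82.DefOne
  Cfsg.Agent.Helper77.DefOne Cfsg.Agent.Helper57.BH
open scoped ComplexConjugate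

universe u

variable {G : Type u} [Group G] [Fintype G] {p : ℕ} [Fact p.Prime] (P : Sylow p G)

/-! ## (T) the block of `θ` has exactly two exceptional characters; the centre -/

/-- (T1) `ψ ψ̄'` has no `P`-fixed points for every other exceptional character `ψ'` of the block
of `θ` -/
theorem pSum_mulConj_third (hP : Nat.card P = p)
    [((P : Subgroup G).subgroupOf (nor P)).Normal] (hmod : ModCount p P)
    {θ : IrrCharacter (cen P)} {ψ ψ₂ : IrrCharacter G}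
    {φ₀ φ₂ : IrrCharacter (cen P)} {Xθ Yθ : Set (IrrCharacter G)} {εθ : IrrCharacter G → ℤ}
    (hE : IsExcPair P θ ψ ψ₂ φ₀ φ₂ Xθ Yθ εθ)
    {X Y : Set (IrrCharacter G)} {ε : IrrCharacter G → ℤ} {δ : ℤ}
    (hD : IsPslData P ψ ψ₂ X Y ε δ)
    (ψ' : IrrCharacter G) (hψ' : ψ' ∈ Yθ) (hne' : ψ' ≠ ψ) :
    pSum P (mulConj (ψ : G → ℂ) (ψ' : G → ℂ)) = 0 := by
  apply Cfsg.Agent.Helper82.BP.pSum_mulConj_third (p := p) P <;> assumption

/-- (T1') an exceptional character of the block of `θ` has no `P`-fixed points and degree `f` -/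
theorem pSum_of_mem_Yθ (hP : Nat.card P = p)
    [((P : Subgroup G).subgroupOf (nor P)).Normal] (hmod : ModCount p P)
    {θ : IrrCharacter (cen P)} {ψ ψ₂ : IrrCharacter G}
    {φ₀ φ₂ : IrrCharacter (cen P)} {Xθ Yθ : Set (IrrCharacter G)} {εθ : IrrCharacter G → ℤ}
    (hE : IsExcPair P θ ψ ψ₂ φ₀ φ₂ Xθ Yθ εθ) (hpf : 2 * (cen P).relIndex (nor P) + 1 = p)
    (ψ' : IrrCharacter G) (hψ' : ψ' ∈ Yθ) :
    pSum P (ψ' : G → ℂ) = 0 ∧ charDegree (ψ' : G → ℂ) = (cen P).relIndex (nor P) := by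
  apply Cfsg.Agent.Helper33.BP.pSum_of_mem_Yθ (p := p) P <;> assumption

/-- (T1'') `∑_{x ∈ P} |ψ(x)|² = p f` -/
theorem pSum_normSq (hP : Nat.card P = p)
    [((P : Subgroup G).subgroupOf (nor P)).Normal] (hmod : ModCount p P)
    {θ : IrrCharacter (cen P)} {ψ ψ₂ : IrrCharacter G}
    {φ₀ φ₂ : IrrCharacter (cen P)} {Xθ Yθ : Set (IrrCharacter G)} {εθ : IrrCharacter G → ℤ}
    (hE : IsExcPair P θ ψ ψ₂ φ₀ φ₂ Xθ Yθ εθ)
    {X Y : Set (IrrCharacter G)} {ε : IrrCharacter G → ℤ} {δ : ℤ}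
    (hD : IsPslData P ψ ψ₂ X Y ε δ) :
    pSum P (mulConj (ψ : G → ℂ) (ψ : G → ℂ)) =
      (p : ℂ) * ((cen P).relIndex (nor P) : ℂ) := by
  apply Cfsg.Agent.Helper33.BP.pSum_normSq (p := p) P <;> assumption

/-- (T2) the block of `θ` has exactly two exceptional characters (pure algebra from the
`P`-sums) -/
theorem Yθ_eq_pair {ψ ψ₂ : IrrCharacter G} {Yθ : Set (IrrCharacter G)}
    (hψ : ψ ∈ Yθ) (hψ₂ : ψ₂ ∈ Yθ)
    (hpf : 2 * (cen P).relIndex (nor P) + 1 = p)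
    (hT1 : ∀ ψ' ∈ Yθ, ψ' ≠ ψ → pSum P (mulConj (ψ : G → ℂ) (ψ' : G → ℂ)) = 0)
    (hT1s : ∀ ψ' ∈ Yθ, ψ' ≠ ψ₂ → pSum P (mulConj (ψ₂ : G → ℂ) (ψ' : G → ℂ)) = 0)
    (hT1' : ∀ ψ' ∈ Yθ, pSum P (ψ' : G → ℂ) = 0 ∧
      charDegree (ψ' : G → ℂ) = (cen P).relIndex (nor P))
    (x v : G)
    (hclass : ∀ F : G → ℂ, IsClassFunction G F →
        pSum P F = F 1 + ((cen P).relIndex (nor P) : ℂ) * F x +
          ((cen P).relIndex (nor P) : ℂ) * F v)
    (hsum1 : (ψ : G → ℂ) x + (ψ₂ : G → ℂ) x = -1)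
    (hv : (ψ : G → ℂ) v = (ψ₂ : G → ℂ) x) (hv₂ : (ψ₂ : G → ℂ) v = (ψ : G → ℂ) x) :
    Yθ = {ψ, ψ₂} := by
  apply Cfsg.Agent.Helper48.BP.Yθ_eq_pair (p := p) P <;> assumption

/-- (T3) `θ` is invariant in `N_G(P)` -/
theorem smul_theta_eq (hP : Nat.card P = p)
    {θ : IrrCharacter (cen P)} {ψ ψ₂ : IrrCharacter G}
    {φ₀ φ₂ : IrrCharacter (cen P)} {Xθ Yθ : Set (IrrCharacter G)} {εθ : IrrCharacter G → ℤ}
    (hE : IsExcPair P θ ψ ψ₂ φ₀ φ₂ Xθ Yθ εθ) (hpf : 2 * (cen P).relIndex (nor P) + 1 = p)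
    (hY : Yθ = {ψ, ψ₂}) (n : nor P) : n • θ = θ := by
  apply Cfsg.Agent.Helper80.BP.smul_theta_eq (p := p) P <;> assumption

/-- (T4) the `p`-regular elements of `C_G(P)` are central in `G`, and `ψ` is `f θ` on them -/
theorem regular_mem_center (hP : Nat.card P = p)
    {θ : IrrCharacter (cen P)} {ψ ψ₂ : IrrCharacter G}
    {φ₀ φ₂ : IrrCharacter (cen P)} {Xθ Yθ : Set (IrrCharacter G)} {εθ : IrrCharacter G → ℤ}
    (hE : IsExcPair P θ ψ ψ₂ φ₀ φ₂ Xθ Yθ εθ) (hinv : ∀ n : nor P, n • θ = θ)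
    (hfaith : ∀ g : G, (ψ : G → ℂ) g = (ψ : G → ℂ) 1 → g = 1)
    (c : cen P) (hc : ¬ p ∣ orderOf c) :
    (c : G) ∈ Subgroup.center G ∧
      (ψ : G → ℂ) (c : G) = ((cen P).relIndex (nor P) : ℂ) * (θ : cen P → ℂ) c := by
  apply Cfsg.Agent.Helper82.BP.regular_mem_center (p := p) P <;> assumption

/-! ## (W) the two classes of elements of order `p`, and the values of `ψ`, `ψ₂` on `P` -/

/-- (W1) `P \ 1` consists of two `N_G(P)`-classes of size `f` -/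
theorem exists_other_class (hP : Nat.card P = p) (hpf : 2 * (cen P).relIndex (nor P) + 1 = p)
    (x : G) (hx : x ∈ (P : Subgroup G)) (hx1 : x ≠ 1) :
    ∃ v : G, v ∈ (P : Subgroup G) ∧ v ≠ 1 ∧
      ∀ F : G → ℂ, IsClassFunction G F →
        pSum P F = F 1 + ((cen P).relIndex (nor P) : ℂ) * F x +
          ((cen P).relIndex (nor P) : ℂ) * F v := by
  apply Cfsg.Agent.Helper80.BP.exists_other_class (p := p) P <;> assumption

/-- (W2) the values of `ψ` and `ψ₂` on `P` (pure algebra from the `P`-sums) -/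
theorem exc_values_on_P (ψ ψ₂ : IrrCharacter G)
    (hpf : 2 * (cen P).relIndex (nor P) + 1 = p)
    (hdeg : charDegree (ψ : G → ℂ) = (cen P).relIndex (nor P))
    (hdeg₂ : charDegree (ψ₂ : G → ℂ) = (cen P).relIndex (nor P))
    (h0 : pSum P (ψ : G → ℂ) = 0) (h0' : pSum P (ψ₂ : G → ℂ) = 0)
    (h12 : pSum P (mulConj (ψ : G → ℂ) (ψ₂ : G → ℂ)) = 0)
    (h11 : pSum P (mulConj (ψ : G → ℂ) (ψ : G → ℂ)) =
      (p : ℂ) * ((cen P).relIndex (nor P) : ℂ))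
    (h22 : pSum P (mulConj (ψ₂ : G → ℂ) (ψ₂ : G → ℂ)) =
      (p : ℂ) * ((cen P).relIndex (nor P) : ℂ))
    (x v : G)
    (hclass : ∀ F : G → ℂ, IsClassFunction G F →
        pSum P F = F 1 + ((cen P).relIndex (nor P) : ℂ) * F x +
          ((cen P).relIndex (nor P) : ℂ) * F v) :
    (ψ : G → ℂ) x + (ψ₂ : G → ℂ) x = -1 ∧
      (ψ : G → ℂ) v = (ψ₂ : G → ℂ) x ∧ (ψ₂ : G → ℂ) v = (ψ : G → ℂ) x ∧
      ‖(ψ : G → ℂ) x‖ ^ 2 + ‖(ψ₂ : G → ℂ) x‖ ^ 2 = ((cen P).relIndex (nor P) : ℝ) + 1 ∧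
      ‖(ψ : G → ℂ) x - (ψ₂ : G → ℂ) x‖ ^ 2 = (p : ℝ) := by
  apply Cfsg.Agent.Helper48.BP.exc_values_on_P (p := p) P <;> assumption

/-! ## (U) the class multiplication constants -/

/-- (U1) twisting the class multiplication constants by a central character (any finite group) -/
theorem norm_tsum_overChar_le (ψ : IrrCharacter G) (u v w : G) :
    ‖tsum (overChar ψ) u v w‖ ≤ (tsum (overOne G) u v w).re := by
  apply Cfsg.Agent.Helper75.BP.norm_tsum_overChar_le <;> assumption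

/-- (U2) only the characters of the block of `θ` contribute at elements of order `p` -/
theorem tsum_overChar_eq_Rset (hP : Nat.card P = p)
    [((P : Subgroup G).subgroupOf (nor P)).Normal] (hmod : ModCount p P)
    (hcent : ∀ c : cen P, ¬ p ∣ orderOf c → (c : G) ∈ Subgroup.center G)
    (hZreg : ∀ ζ : G, ζ ∈ Subgroup.center G → ¬ p ∣ orderOf ζ)
    (θ : IrrCharacter (cen P)) (hθ : IsCanon P θ) (hθ1 : charDegree (θ : cen P → ℂ) = 1)
    (ψ : IrrCharacter G)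
    (hψθ : ∀ c : cen P, ¬ p ∣ orderOf c →
      (ψ : G → ℂ) (c : G) = (ψ : G → ℂ) 1 * (θ : cen P → ℂ) c)
    (x v : G) (hx : x ∈ (P : Subgroup G)) (hx1 : x ≠ 1) (w : G) :
    tsum (overChar ψ) x v w = tsum (Rset P θ) x v w := by
  apply Cfsg.Agent.Helper82.BP.tsum_overChar_eq_Rset (p := p) P <;> assumption

/-- (U3) the sum over the block of `θ` -/
theorem tsum_Rset_theta_sub (hP : Nat.card P = p)
    [((P : Subgroup G).subgroupOf (nor P)).Normal] (hmod : ModCount p P)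
    {θ : IrrCharacter (cen P)} {ψ ψ₂ : IrrCharacter G}
    {φ₀ φ₂ : IrrCharacter (cen P)} {Xθ Yθ : Set (IrrCharacter G)} {εθ : IrrCharacter G → ℤ}
    (hE : IsExcPair P θ ψ ψ₂ φ₀ φ₂ Xθ Yθ εθ) (hinv : ∀ n : nor P, n • θ = θ)
    (hY : Yθ = {ψ, ψ₂})
    (x v : G) (hx : x ∈ (P : Subgroup G)) (hx1 : x ≠ 1) (hv : v ∈ (P : Subgroup G))
    (hv1 : v ≠ 1) (z : G) (hz : ¬ p ∣ orderOf z) :
    tsum (Rset P θ) x x z - tsum (Rset P θ) x v z =
      ((ψ : G → ℂ) x * (ψ : G → ℂ) x + (ψ₂ : G → ℂ) x * (ψ₂ : G → ℂ) x -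
        (ψ : G → ℂ) x * (ψ : G → ℂ) v - (ψ₂ : G → ℂ) x * (ψ₂ : G → ℂ) v) *
        conj ((ψ : G → ℂ) z) / ((cen P).relIndex (nor P) : ℂ) := by
  apply Cfsg.Agent.Helper82.BP.tsum_Rset_theta_sub (p := p) P <;> assumption

/-- (U4) the sum over the principal block -/
theorem tsum_Rset_one_add (hP : Nat.card P = p)
    [((P : Subgroup G).subgroupOf (nor P)).Normal] (hmod : ModCount p P)
    {ψ ψ₂ : IrrCharacter G}
    (hreg : ∀ g : G, ¬ p ∣ orderOf g → (ψ₂ : G → ℂ) g = (ψ : G → ℂ) g)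
    {X Y : Set (IrrCharacter G)} {ε : IrrCharacter G → ℤ} {δ : ℤ}
    (hD : IsPslData P ψ ψ₂ X Y ε δ)
    (x v : G) (hx : x ∈ (P : Subgroup G)) (hx1 : x ≠ 1) (hv : v ∈ (P : Subgroup G))
    (hv1 : v ≠ 1)
    (hclass : ∀ F : G → ℂ, IsClassFunction G F →
        pSum P F = F 1 + ((cen P).relIndex (nor P) : ℂ) * F x +
          ((cen P).relIndex (nor P) : ℂ) * F v)
    (z : G) (hz : ¬ p ∣ orderOf z) :
    tsum (Rset P (oneIrr P)) x x z + tsum (Rset P (oneIrr P)) x v z =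
      2 + 2 * ((ψ : G → ℂ) z * conj ((ψ : G → ℂ) z) - 1) / ((p : ℂ) + 1) +
        (ψ : G → ℂ) z * conj ((ψ : G → ℂ) z) / ((cen P).relIndex (nor P) : ℂ) := by
  apply Cfsg.Agent.Helper3.BP.tsum_Rset_one_add (p := p) P <;> assumption

/-! ## (V) the moments of `ψ` -/

/-- (V1) the second moment (any finite group) -/
theorem sum_normSq_irr (ψ : IrrCharacter G) :
    ∑ g : G, ‖(ψ : G → ℂ) g‖ ^ 2 = (Nat.card G : ℝ) := by
  apply Cfsg.Agent.Helper41.BP.sum_normSq_irr <;> assumption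

/-- (V2) the fourth moments -/
theorem sum_norm_four {ψ ψ₂ : IrrCharacter G}
    {X Y : Set (IrrCharacter G)} {ε : IrrCharacter G → ℤ} {δ : ℤ}
    (hP : Nat.card P = p) (hD : IsPslData P ψ ψ₂ X Y ε δ) :
    ∑ g : G, (‖(ψ : G → ℂ) g‖ ^ 4 + ‖(ψ : G → ℂ) g‖ ^ 2 * ‖(ψ₂ : G → ℂ) g‖ ^ 2) =
      (((cen P).relIndex (nor P) : ℝ) + 1) * (Nat.card G : ℝ) := by
  apply Cfsg.Agent.Helper41.BP.sum_norm_four (p := p) P <;> assumption

open Classical in
/-- (V3) sums over the `p`-singular elements -/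
theorem sum_singular_eq (hP : Nat.card P = p)
    (hcent : ∀ c : cen P, ¬ p ∣ orderOf c → (c : G) ∈ Subgroup.center G)
    (hZreg : ∀ ζ : G, ζ ∈ Subgroup.center G → ¬ p ∣ orderOf ζ)
    (F : G → ℝ) (hF : ∀ g h : G, F (g * h * g⁻¹) = F h)
    (hFZ : ∀ g ζ : G, ζ ∈ Subgroup.center G → F (g * ζ) = F g) :
    ∑ g ∈ Finset.univ.filter (fun g : G => p ∣ orderOf g), F g =
      (Nat.card (Subgroup.center G) : ℝ) * (Nat.card (Sylow p G) : ℝ) *
        ∑ u ∈ Finset.univ.filter (fun u : G => u ∈ (P : Subgroup G) ∧ u ≠ 1), F u := by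
  apply Cfsg.Agent.Helper75.BP.sum_singular_eq (p := p) P <;> assumption

/-- (V4) the order of `G` -/
theorem card_eq_of_cent (hP : Nat.card P = p)
    (hcent : ∀ c : cen P, ¬ p ∣ orderOf c → (c : G) ∈ Subgroup.center G)
    (hZreg : ∀ ζ : G, ζ ∈ Subgroup.center G → ¬ p ∣ orderOf ζ) :
    Nat.card G = Nat.card (Sylow p G) * ((cen P).relIndex (nor P) *
      (p * Nat.card (Subgroup.center G))) := by
  apply Cfsg.Agent.Helper80.BP.card_eq_of_cent (p := p) P <;> assumption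

end Cfsg.Agent.Helper57.BP
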