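import Cfsg.Agent.Helper57.BP.Lemmas

/-!
# S4504: the restriction of `χ` to the subgroup generated by the elements of order `p` is
irreducible
-/

set_option autoImplicit false

namespace Cfsg.Agent.Helper57.BP

open Cfsg Cfsg.Agent.Helper16 Cfsg.Agent.Helper16.DefOne Cfsg.Agent.Helper82.DefOne
  Cfsg.Agent.Helper77.DefOne Cfsg.Agent.Helper57.BH
open scoped ComplexConjugate

universe u

open Classical in
/-- **(K0)** if `|P| = p`, `P` is not normal and `χ` is a faithful character of degree `(p-1)/2`,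
then the restriction of `χ` to `K`, the subgroup generated by the elements of order `p`, is
irreducible, and `P` is not in its centre. -/
theorem exists_irr_restrict {G : Type u} [Group G] [Fintype G] {p : ℕ}
    [Fact p.Prime] (P : Sylow p G) (hP : Nat.card P = p) (hnn : ¬ (P : Subgroup G).Normal)
    (χ : G → ℂ) (hχ : IsCharacter G χ)
    (hfaith : ∀ g : G, χ g = χ 1 → g = 1) (hdeg : 2 * charDegree χ + 1 = p)
    (K : Subgroup G) (hK : K = Subgroup.normalClosure {g : G | orderOf g = p})
    (hPK : (P : Subgroup G) ≤ K) :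
    ∃ ψK : IrrCharacter K, (∀ k : K, (ψK : K → ℂ) k = χ k) ∧
      ∃ x : K, x ∈ ((P.subtype hPK : Sylow p K) : Subgroup K) ∧ x ∉ Helper74.charCenter ψK := by
  have hp : p.Prime := Fact.out
  set PK : Sylow p K := P.subtype hPK with hPKdef
  have hPKcard : Nat.card PK = p := by
    exact (Nat.card_congr (Subgroup.subgroupOfEquivOfLe hPK).toEquiv).trans hP
  have hgenK : ∀ μ : IrrCharacter K, charDegree (μ : K → ℂ) = 1 →
      (∀ k : K, orderOf k = p → (μ : K → ℂ) k = 1) → μ = oneIrrG K :=
    fun μ h1 h2 => eq_oneIrrG_of_normalClosure p K hK μ h1 h2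
  -- the decomposition of the restriction
  haveI : Fintype (IrrCharacter K) := Helper74.irrFintype K
  have hχK : IsCharacter K (fun k : K => χ k) := Helper74.isCharacter_restrict K hχ
  have hdec := Helper74.isCharacter_eq_sum_irr hχK
  have hnat : ∀ ψ : IrrCharacter K, ∃ n : ℕ,
      classInner (fun k : K => χ k) (ψ : K → ℂ) = n :=
    fun ψ => Helper74.isCharacter_inner_irr_nat hχK ψ
  choose n hn using hnat
  have hval : ∀ k : K, χ k = ∑ ψ : IrrCharacter K, (n ψ : ℂ) * (ψ : K → ℂ) k := by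
    intro k
    have := congrFun hdec k
    simp only [Finset.sum_apply, Pi.smul_apply, smul_eq_mul] at this
    rw [this]
    exact Finset.sum_congr rfl (fun ψ _ => by rw [hn ψ])
  -- the degrees of the constituents
  have h3 : charDegree χ = ∑ ψ : IrrCharacter K, n ψ * charDegree (ψ : K → ℂ) := by
    have h1 := hval 1
    rw [Subgroup.coe_one, Helper79.isCharacter_one hχ] at h1
    have h2 : (charDegree χ : ℂ) =
        ((∑ ψ : IrrCharacter K, n ψ * charDegree (ψ : K → ℂ) : ℕ) : ℂ) := by
      rw [h1]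
      push_cast
      exact Finset.sum_congr rfl (fun ψ _ => by rw [Helper79.irr_one])
    exact_mod_cast h2
  -- some constituent does not have `P` in its centre
  have hex : ∃ ψ : IrrCharacter K, n ψ ≠ 0 ∧
      ∃ x : K, x ∈ (PK : Subgroup K) ∧ x ∉ Helper74.charCenter ψ := by
    by_contra hcon
    push Not at hcon
    apply hnn
    -- `P` centralizes `K`
    have hcomm : ∀ x : G, x ∈ (P : Subgroup G) → ∀ k : G, k ∈ K → x * k * x⁻¹ * k⁻¹ = 1 := by
      intro x hx k hk
      apply hfaith
      have e1 : χ (x * k * x⁻¹ * k⁻¹) =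
          χ (((⟨x, hPK hx⟩ : K) * ⟨k, hk⟩ * (⟨x, hPK hx⟩ : K)⁻¹ * (⟨k, hk⟩ : K)⁻¹ : K) : G) := rfl
      have e2 : χ 1 = χ ((1 : K) : G) := rfl
      rw [e1, e2, hval, hval]
      refine Finset.sum_congr rfl (fun ψ _ => ?_)
      by_cases hψ : n ψ = 0
      · rw [hψ]; simp
      · congr 1
        apply apply_commutator_of_mem_charCenter
        have hxPK : (⟨x, hPK hx⟩ : K) ∈ (PK : Subgroup K) := by
          rw [hPKdef, Sylow.coe_subtype, Subgroup.mem_subgroupOf]
          exact hx
        exact hcon ψ hψ _ hxPK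
    constructor
    intro x hx g
    have hxK : x ∈ K := hPK hx
    have hKn : K.Normal := by rw [hK]; exact Subgroup.normalClosure_normal
    have hyK : g * x * g⁻¹ ∈ K := hKn.conj_mem x hxK g
    have hpow : (g * x * g⁻¹) ^ p ^ 1 = 1 := by
      rw [pow_one, conj_pow]
      have : x ^ p = 1 := by
        have h1 := orderOf_dvd_natCard (⟨x, hx⟩ : (P : Subgroup G))
        rw [hP, Subgroup.orderOf_mk] at h1
        exact orderOf_dvd_iff_pow_eq_one.mp h1
      rw [this]
      group
    apply Helper70.DefOneXG.mem_sylow_of_pow P hpow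
    apply Subgroup.centralizer_le_normalizer
    rw [Subgroup.mem_centralizer_iff]
    intro z hz
    have := hcomm z hz _ hyK
    have h3 : z * (g * x * g⁻¹) * z⁻¹ * (g * x * g⁻¹)⁻¹ = 1 := this
    calc z * (g * x * g⁻¹)
        = (z * (g * x * g⁻¹) * z⁻¹ * (g * x * g⁻¹)⁻¹) * ((g * x * g⁻¹) * z) := by group
      _ = (g * x * g⁻¹) * z := by rw [h3, one_mul]
  obtain ⟨ψ, hψn, x, hxP, hxc⟩ := hex
  -- its degree is `χ(1)`
  have hle : n ψ * charDegree (ψ : K → ℂ) ≤ charDegree χ := by
    rw [h3]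
    exact Finset.single_le_sum (f := fun ψ : IrrCharacter K => n ψ * charDegree (ψ : K → ℂ))
      (fun _ _ => Nat.zero_le _) (Finset.mem_univ ψ)
  have hge : p ≤ 2 * charDegree (ψ : K → ℂ) + 1 := by
    by_contra hlt
    exact hxc (mem_charCenter_of_small PK hPKcard hgenK ψ (by omega) x hxP)
  have hn1 : 1 ≤ n ψ := Nat.pos_of_ne_zero hψn
  have hdψ : charDegree (ψ : K → ℂ) = charDegree χ := by nlinarith
  have hnψ : n ψ = 1 := by
    have hpos : 0 < charDegree (ψ : K → ℂ) := Helper79.irr_charDegree_pos ψ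
    nlinarith
  have hother : ∀ ψ' : IrrCharacter K, ψ' ≠ ψ → n ψ' = 0 := by
    intro ψ' hne
    by_contra hn0
    have hpos' : 0 < charDegree (ψ' : K → ℂ) := Helper79.irr_charDegree_pos ψ'
    have h2 : n ψ * charDegree (ψ : K → ℂ) + n ψ' * charDegree (ψ' : K → ℂ) ≤
        ∑ ψ : IrrCharacter K, n ψ * charDegree (ψ : K → ℂ) := by
      have := Finset.sum_le_sum_of_subset_of_nonneg
        (f := fun ψ : IrrCharacter K => n ψ * charDegree (ψ : K → ℂ))
        (Finset.subset_univ ({ψ, ψ'} : Finset (IrrCharacter K))) (fun _ _ _ => Nat.zero_le _)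
      rw [Finset.sum_pair hne.symm] at this
      exact this
    rw [← h3, hnψ, hdψ] at h2
    have : 0 < n ψ' * charDegree (ψ' : K → ℂ) :=
      Nat.mul_pos (Nat.pos_of_ne_zero hn0) hpos'
    omega
  refine ⟨ψ, ?_, x, hxP, hxc⟩
  intro k
  rw [hval k, Finset.sum_eq_single ψ]
  · rw [hnψ]; simp
  · intro ψ' _ hne
    rw [hother ψ' hne]; simp
  · intro h
    exact absurd (Finset.mem_univ ψ) h

end Cfsg.Agent.Helper57.BP
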